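import Groth.Agent.H34.Stein.Fibre
import Groth.Agent.H34.GeomPts.Semicont
import Groth.Agent.H46.OpenAt

/-!
# The number of geometric connected components of the fibres of a proper morphism
-/

set_option autoImplicit false
universe u

open CategoryTheory CategoryTheory.Limits AlgebraicGeometry Topology Filter

namespace Groth.Agent.H34.Stein

/-- Universal openness passes to the Stein factor. -/
theorem isUnivOpenAt_fromNormalization {X Y : Scheme.{u}} (f : X ⟶ Y) [IsProper f] (y : Y)
    (h : ∀ x : X, f x = y → EGA43.IsUnivOpenAt f x) (n : f.normalization)
    (hn : f.fromNormalization n = y) : EGA43.IsUnivOpenAt f.fromNormalization n := by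
  have := geometricallyConnected_toNormalization f
  obtain ⟨x, rfl⟩ := f.toNormalization.surjective n
  refine H46.OpenAt.isUnivOpenAt_of_comp f.toNormalization f.fromNormalization x ?_
  rw [f.toNormalization_fromNormalization]
  refine h x ?_
  rw [← hn, ← Scheme.Hom.comp_apply, f.toNormalization_fromNormalization]

/-- Lower semicontinuity of the geometric number of connected components along a fibre of universal
openness. -/
theorem eventually_le {X Y : Scheme.{u}} (f : X ⟶ Y) [IsProper f] [IsLocallyNoetherian Y] (y : Y)
    (h : ∀ x : X, f x = y → EGA43.IsUnivOpenAt f x) :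
    ∀ᶠ z in 𝓝 y, MoreMor.nGeomConnComp f y ≤ MoreMor.nGeomConnComp f z := by
  have := isFinite_fromNormalization f
  filter_upwards [GeomPts.eventually_le_nGeomConnComp f.fromNormalization y
    (isUnivOpenAt_fromNormalization f y h)] with z hz
  rwa [(nGeomConnComp_eq f y).2, (nGeomConnComp_eq f z).2]

end Groth.Agent.H34.Stein
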