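import Groth.Agent.H34.Stein.FlatModel
import Groth.Agent.H34.Stein.GeomCount
import Groth.Agent.H46.GeomSpread.Fibre

/-!
# Geometric connected components of proper flat morphisms over any base
-/

set_option autoImplicit false
universe u

open CategoryTheory CategoryTheory.Limits AlgebraicGeometry Topology Filter

namespace Groth.Agent.H34.Stein

/-- Flat morphisms of finite presentation are universally open at every point. -/
theorem isUnivOpenAt_of_flat {X Y : Scheme.{u}} (f : X ⟶ Y) [Flat f] [LocallyOfFinitePresentation f]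
    (x : X) : EGA43.IsUnivOpenAt f x :=
  fun _ g _ _ => H46.OpenAt.isOpenAt_of_isOpenMap (pullback.snd f g).isOpenMap _

/-- Reduction to a Noetherian model: every proper flat morphism of finite presentation is, near a
point, the base change of one over a Noetherian scheme, with the same component counts. -/
theorem exists_local_model {X Y : Scheme.{u}} (f : X ⟶ Y) [IsProper f] [Flat f]
    [LocallyOfFinitePresentation f] (y : Y) :
    ∃ (U : Y.Opens) (_ : y ∈ U) (S₀ X₀ : Scheme.{u}) (f₀ : X₀ ⟶ S₀) (g : U.toScheme ⟶ S₀)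
      (q : (f ⁻¹ᵁ U).toScheme ⟶ X₀),
      IsLocallyNoetherian S₀ ∧ IsProper f₀ ∧ Flat f₀ ∧ LocallyOfFinitePresentation f₀ ∧
      IsPullback q (f ∣_ U) f₀ g ∧
      ∀ z : U.toScheme, MoreMor.nGeomConnComp f z.1 = MoreMor.nGeomConnComp f₀ (g z) := by
  obtain ⟨U, hU, hyU, -⟩ := exists_isAffineOpen_mem_and_subset (show y ∈ (⊤ : Y.Opens) from trivial)
  have hsq := isPullback_morphismRestrict f U
  have : Flat (f ∣_ U) := MorphismProperty.of_isPullback hsq.flip inferInstance
  have : IsProper (f ∣_ U) := MorphismProperty.of_isPullback hsq.flip inferInstance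
  have : LocallyOfFinitePresentation (f ∣_ U) := MorphismProperty.of_isPullback hsq.flip inferInstance
  obtain ⟨S₀, X₀, f₀, q, π, _, hS₀, hpb, h1, h2, h3⟩ :=
    exists_flat_noetherian_model ((f ∣_ U) ≫ hU.isoSpec.hom)
  have hpb' : IsPullback q (f ∣_ U) f₀ (hU.isoSpec.hom ≫ π) := by
    refine hpb.of_iso (Iso.refl _) (Iso.refl _) hU.isoSpec.symm (Iso.refl _) ?_ ?_ ?_ ?_ <;> simp
  refine ⟨U, hyU, S₀, X₀, f₀, hU.isoSpec.hom ≫ π, q, hS₀, h1, h2, h3, hpb', fun z => ?_⟩
  rw [← (H46.GeomSpread.counts_baseChange f₀ (f ∣_ U) q _ hpb' z).2,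
    (H46.GeomSpread.counts_baseChange f (f ∣_ U) _ _ hsq.flip z).2]
  rfl

/-- Lower semicontinuity of the geometric number of connected components. -/
theorem lowerSemicontinuous {X Y : Scheme.{u}} (f : X ⟶ Y) [IsProper f] [Flat f]
    [LocallyOfFinitePresentation f] : LowerSemicontinuous (fun y => MoreMor.nGeomConnComp f y) := by
  intro y a ha
  obtain ⟨U, hyU, S₀, X₀, f₀, g, q, _, _, _, _, -, hn⟩ := exists_local_model f y
  have h := (g.continuous.continuousAt (x := ⟨y, hyU⟩)).eventually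
    (eventually_le f₀ (g ⟨y, hyU⟩) fun x _ => isUnivOpenAt_of_flat f₀ x)
  have h' := h.mono fun z hz => show a < MoreMor.nGeomConnComp f (U.ι z) by
    show a < MoreMor.nGeomConnComp f z.1
    rw [hn]
    exact lt_of_lt_of_le ha ((hn ⟨y, hyU⟩).le.trans hz)
  have := U.ι.isOpenEmbedding.map_nhds_eq ⟨y, hyU⟩
  show ∀ᶠ z in 𝓝 (U.ι ⟨y, hyU⟩), a < MoreMor.nGeomConnComp f z
  rw [← this]
  exact h'

end Groth.Agent.H34.Stein
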