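import Groth.Agent.H34.Stein.ReducedCount
import Groth.Agent.H34.Stein.FlatCount
import Groth.Agent.H52.FBase.Descend
import Groth.Agent.S2549

/-!
# Geometrically reduced fibres of proper flat morphisms
-/

set_option autoImplicit false
universe u

open CategoryTheory CategoryTheory.Limits AlgebraicGeometry Topology Filter

namespace Groth.Agent.H34.Stein

/-- Geometric reducedness of a fibre does not depend on the field over the point. -/
theorem geometricallyReduced_fibre_iff {X Y X' Y' : Scheme.{u}} (f : X ⟶ Y) (f' : X' ⟶ Y') (q : X' ⟶ X)
    (g : Y' ⟶ Y) (h : IsPullback q f' f g) (y : Y') :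
    GeometricallyReduced (f'.fiberToSpecResidueField y) ↔
      GeometricallyReduced (f.fiberToSpecResidueField (g y)) := by
  have sq := isPullback_fiberToSpecResidueField_of_isPullback h y
  refine ⟨fun hr => ?_, fun hr => MorphismProperty.of_isPullback sq hr⟩
  rw [GeometricallyReduced.eq_geometrically]
  refine H52.FBase.Descend.geometrically_of_surjective
    (fun p _ _ h => @H52.FBase.Descend.isReduced_of_flat_surjective _ _ p _ _ h)
    _ (Spec.map (g.residueFieldMap y)) ?_
  have e : geometrically IsReduced (f'.fiberToSpecResidueField y) := hr.geometrically_isReduced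
  rw [← sq.isoPullback_hom_snd] at e
  exact (MorphismProperty.cancel_left_of_respectsIso _ _ _).1 e

/-- For proper flat morphisms of finite presentation the geometrically reduced fibres form an open
set. -/
theorem isOpen_geometricallyReduced {X Y : Scheme.{u}} (f : X ⟶ Y) [IsProper f] [Flat f]
    [LocallyOfFinitePresentation f] :
    IsOpen {y : Y | GeometricallyReduced (f.fiberToSpecResidueField y)} := by
  let G : Set X := {x : X | FBase.IsGeomReducedAt (f.fiberToSpecResidueField (f.base x)) (f.asFiber x)}
  have hG : IsOpen G := Groth.Agent.S2549.result f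
  have : {y : Y | GeometricallyReduced (f.fiberToSpecResidueField y)} = (f.base '' Gᶜ)ᶜ := by
    ext y
    constructor
    · rintro hy ⟨x, hx, rfl⟩
      refine hx fun K _ _ x' _ => ?_
      have : IsReduced (FBase.bc (f.fiberToSpecResidueField (f.base x)) K) :=
        hy.geometrically_isReduced _ _ _ (IsPullback.of_hasPullback _ _)
      infer_instance
    · intro hy
      show GeometricallyReduced _
      refine ⟨geometrically_iff_of_isClosedUnderIsomorphisms.mpr fun K _ σ => ?_⟩
      obtain ⟨φ, rfl⟩ := Spec.map_surjective σ
      let _ : Algebra (IsLocalRing.ResidueField (Y.presheaf.stalk y)) K := φ.hom.toAlgebra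
      have : ∀ w, _root_.IsReduced ((FBase.bc (f.fiberToSpecResidueField y) K).presheaf.stalk w) := by
        intro w
        let z := (FBase.bcπ (f.fiberToSpecResidueField y) K).base w
        have hz : f (f.fiberι y z) = y := by
          have : f.fiberι y z ∈ Set.range (f.fiberι y) := ⟨z, rfl⟩
          rwa [Scheme.Hom.range_fiberι] at this
        have hg : f.fiberι y z ∈ G := by
          by_contra hn
          exact hy ⟨_, hn, hz⟩
        have key : ∀ (x : X) (y : Y) (hxy : f x = y) (z : ↥(f.fiber y)), f.fiberι y z = x → x ∈ G →
            FBase.IsGeomReducedAt (f.fiberToSpecResidueField y) z := by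
          rintro x _ rfl z hz hx
          obtain rfl : z = f.asFiber x :=
            (f.fiberι (f x)).isEmbedding.injective (hz.trans (f.fiberι_asFiber x).symm)
          exact hx
        exact key _ y hz z rfl hg K w rfl
      exact @isReduced_of_isReduced_stalk _ this
  rw [this]
  exact (f.isClosedMap _ hG.isClosed_compl).isOpen_compl

/-- The number of geometric components is constant near a geometrically reduced fibre of a proper
flat morphism of finite presentation. -/
theorem eventually_eq_of_flat {X Y : Scheme.{u}} (f : X ⟶ Y) [IsProper f] [Flat f]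
    [LocallyOfFinitePresentation f] (y : Y) (hy : GeometricallyReduced (f.fiberToSpecResidueField y)) :
    ∀ᶠ z in 𝓝 y, MoreMor.nGeomConnComp f z = MoreMor.nGeomConnComp f y := by
  obtain ⟨U, hyU, S₀, X₀, f₀, g, q, _, _, _, _, hpb, hn⟩ := exists_local_model f y
  let u : U.toScheme := ⟨y, hyU⟩
  have h1 : GeometricallyReduced ((f ∣_ U).fiberToSpecResidueField u) :=
    (geometricallyReduced_fibre_iff f (f ∣_ U) _ _ (isPullback_morphismRestrict f U).flip u).2 hy
  have h2 := (geometricallyReduced_fibre_iff f₀ (f ∣_ U) q g hpb u).1 h1
  have h3 := (g.continuous.continuousAt (x := u)).eventually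
    (eventually_eq f₀ (g u) (fun x _ => isUnivOpenAt_of_flat f₀ x) h2)
  show ∀ᶠ z in 𝓝 (U.ι u), MoreMor.nGeomConnComp f z = MoreMor.nGeomConnComp f y
  rw [← U.ι.isOpenEmbedding.map_nhds_eq u]
  exact h3.mono fun z hz => by
    show MoreMor.nGeomConnComp f z.1 = MoreMor.nGeomConnComp f u.1
    rw [hn z, hn u, hz]

end Groth.Agent.H34.Stein
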