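import Groth.Agent.H34.Stein.Finite
import Groth.Agent.H34.ZarConn.Main
import Groth.Agent.Lib.ZMTStein.Basic
import Groth.Agent.S1340
import Groth.Agent.S2147
import Mathlib.AlgebraicGeometry.AffineTransitionLimit

/-!
# Geometric connectedness of the Stein factorization

If `f : X ⟶ S` is proper and `O_S = f_* O_X` then `f` is geometrically connected, with no
finiteness hypothesis on `S`.
-/

set_option autoImplicit false
universe u

open CategoryTheory CategoryTheory.Limits AlgebraicGeometry Opposite TopologicalSpace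

namespace Groth.Agent.H34.Stein

theorem isProper_toNormalization {X S : Scheme.{u}} (f : X ⟶ S) [IsProper f] :
    IsProper f.toNormalization := by
  have : IsProper (f.toNormalization ≫ f.fromNormalization) := by
    rw [f.toNormalization_fromNormalization]; infer_instance
  exact IsProper.of_comp f.toNormalization f.fromNormalization

theorem isLocallyNoetherian_normalization {X S : Scheme.{u}} (f : X ⟶ S) [IsProper f]
    [IsLocallyNoetherian S] : IsLocallyNoetherian f.normalization :=
  haveI := isFinite_fromNormalization f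
  LocallyOfFiniteType.isLocallyNoetherian f.fromNormalization

theorem geometricallyConnected_toNormalization_noetherian {X S : Scheme.{u}} (f : X ⟶ S)
    [IsProper f] [IsLocallyNoetherian S] : GeometricallyConnected f.toNormalization :=
  haveI := isProper_toNormalization f
  haveI := isLocallyNoetherian_normalization f
  ZarConn.geometricallyConnected f.toNormalization (Groth.Agent.S1340.result f)

theorem isLocallyNoetherian_of_finiteType {T : Scheme.{u}}
    (h : LocallyOfFiniteType (IsTerminal.from specULiftZIsTerminal T)) : IsLocallyNoetherian T := by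
  have : IsNoetherianRing (ULift.{u} ℤ) := isNoetherianRing_of_ringEquiv ℤ ULift.ringEquiv.symm
  exact LocallyOfFiniteType.isLocallyNoetherian (IsTerminal.from specULiftZIsTerminal T)

set_option backward.isDefEq.respectTransparency false in
theorem connectedSpace_pullback_of_compact {X S : Scheme.{u}} (g : X ⟶ S) [IsProper g]
    [CompactSpace S] [QuasiSeparatedSpace S] (hg : ∀ U : S.Opens, IsIso (g.app U))
    (K : Type u) [Field K] (x : Spec (CommRingCat.of K) ⟶ S) :
    ConnectedSpace ↥(pullback g x) := by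
  obtain ⟨I, _, _, DX, DS, φ, cX, cS, hcX, hcS, eX, eS, haff, hprop, hcomm⟩ :=
    Groth.Agent.S2147.result g
  let π : ∀ i, S ⟶ DS.obj i := fun i => eS.inv ≫ cS.π.app i
  let q : ∀ i, X ⟶ DX.obj i := fun i => eX.inv ≫ cX.π.app i
  have hq : ∀ i, q i ≫ φ.app i = g ≫ π i := fun i => by simp [q, π, hcomm i]
  have hπw : ∀ {i j : I} (a : i ⟶ j), π i ≫ DS.map a = π j := fun a => by
    simp only [π, Category.assoc, Cone.w]
  have hqw : ∀ {i j : I} (a : i ⟶ j), q i ≫ DX.map a = q j := fun a => by
    simp only [q, Category.assoc, Cone.w]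
  have : ∀ i, IsProper (φ.app i) := fun i => (hprop i).1
  have : ∀ i, IsLocallyNoetherian (DS.obj i) := fun i => isLocallyNoetherian_of_finiteType (hprop i).2.2
  have hgN : IsIso g.fromNormalization := Lib.ZMTStein.isIso_fromNormalization g
    fun U _ => (ConcreteCategory.isIso_iff_bijective _).1 (hg U)
  -- the maps to the Stein factorizations at finite stages
  have hσ : ∀ i, ∃ σ : S ⟶ (φ.app i).normalization,
      g ≫ σ = q i ≫ (φ.app i).toNormalization ∧ σ ≫ (φ.app i).fromNormalization = π i := by
    intro i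
    let f₁ : X ⟶ pullback (π i) (φ.app i).fromNormalization :=
      pullback.lift g (q i ≫ (φ.app i).toNormalization)
        (by rw [Category.assoc, (φ.app i).toNormalization_fromNormalization, hq])
    have H : g = f₁ ≫ pullback.fst (π i) (φ.app i).fromNormalization := (pullback.lift_fst _ _ _).symm
    refine ⟨inv g.fromNormalization ≫ g.normalizationDesc f₁ _ H ≫ pullback.snd _ _, ?_, ?_⟩
    · conv_lhs => rw [← Category.assoc]; arg 1; arg 1; rw [← g.toNormalization_fromNormalization]
      simp only [Category.assoc, IsIso.hom_inv_id_assoc, Scheme.Hom.toNormalization_normalizationDesc_assoc]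
      exact pullback.lift_snd _ _ _
    · rw [Category.assoc, Category.assoc, ← pullback.condition, Scheme.Hom.normalizationDesc_comp_assoc,
        IsIso.inv_hom_id_assoc]
  choose σ hσ₁ hσ₂ using hσ
  -- the diagram of fibres
  let F : I ⥤ Scheme.{u} :=
  { obj := fun i => pullback (φ.app i) (x ≫ π i)
    map := fun {i j} a => pullback.map _ _ _ _ (DX.map a) (𝟙 _) (DS.map a) (φ.naturality a).symm
      (by rw [Category.assoc, hπw, Category.id_comp])
    map_id := fun i => by ext <;> simp
    map_comp := fun a b => by ext <;> simp }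
  let P := pullback g x
  let p : ∀ i, P ⟶ F.obj i := fun i => pullback.lift (pullback.fst g x ≫ q i) (pullback.snd g x)
    (by rw [Category.assoc, hq, pullback.condition_assoc])
  let c : Cone F :=
  { pt := P
    π :=
    { app := p
      naturality := fun i j a => by
        dsimp [p, F]
        ext <;> simp [hqw] } }
  have hlim : IsLimit c := by
    let sndπ : (s : Cone F) → ∀ i, s.pt ⟶ Spec (CommRingCat.of K) := fun s i =>
      s.π.app i ≫ pullback.snd _ _
    have hsnd : ∀ (s : Cone F) (i j : I), sndπ s i = sndπ s j := by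
      intro s i j
      obtain ⟨k, a, b, -⟩ := IsCofilteredOrEmpty.cone_objs i j
      simp only [sndπ, ← s.w a, ← s.w b]
      simp [F]
    let cX' : Cone F → Cone DX := fun s => ⟨s.pt,
      { app := fun i => s.π.app i ≫ pullback.fst _ _
        naturality := fun i j a => by
          dsimp
          rw [Category.id_comp, ← s.w a]
          simp [F] }⟩
    let i₀ : I := IsCofiltered.nonempty.some
    have key : ∀ s : Cone F, (hcX.lift (cX' s) ≫ eX.hom) ≫ g = sndπ s i₀ ≫ x := by
      intro s
      have : ∀ i, ((hcX.lift (cX' s) ≫ eX.hom) ≫ g) ≫ π i = (sndπ s i₀ ≫ x) ≫ π i := by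
        intro i
        rw [hsnd s i₀ i]
        simp only [Category.assoc, π, ← hcomm i, hcX.fac_assoc]
        show (s.π.app i ≫ pullback.fst _ _) ≫ φ.app i = _
        simp only [sndπ, Category.assoc, pullback.condition, π]
      have h2 := hcS.hom_ext (f := ((hcX.lift (cX' s) ≫ eX.hom) ≫ g) ≫ eS.inv)
        (f' := (sndπ s i₀ ≫ x) ≫ eS.inv) fun i => by simpa only [Category.assoc, π] using this i
      exact (cancel_mono eS.inv).1 h2
    refine ⟨fun s => pullback.lift (hcX.lift (cX' s) ≫ eX.hom) (sndπ s i₀) (key s), fun s i => ?_,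
      fun s m hm => ?_⟩
    · apply pullback.hom_ext
      · simp only [c, p, Category.assoc, pullback.lift_fst, pullback.lift_fst_assoc, q,
          eX.hom_inv_id_assoc, hcX.fac]
        rfl
      · simp only [c, p, Category.assoc, pullback.lift_snd]
        exact hsnd s i₀ i
    · apply pullback.hom_ext
      · rw [pullback.lift_fst, ← cancel_mono eX.inv]
        refine hcX.hom_ext fun i => ?_
        simp only [Category.assoc, eX.hom_inv_id_assoc, hcX.fac]
        show _ = s.π.app i ≫ pullback.fst _ _
        rw [← hm i]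
        simp [c, p, q]
      · rw [pullback.lift_snd]
        show _ = s.π.app i₀ ≫ pullback.snd _ _
        rw [← hm i₀]
        simp [c, p]
  have : ∀ {i j : I} (a : i ⟶ j), IsAffineHom (F.map a) := by
    intro i j a
    have := (haff i j a).1
    have := (haff i j a).2
    have e₁ : φ.app i ≫ DS.map a = DX.map a ≫ φ.app j := (φ.naturality a).symm
    have e₂ : (x ≫ π i) ≫ DS.map a = 𝟙 _ ≫ x ≫ π j := by rw [Category.assoc, hπw, Category.id_comp]
    have h1 : F.map a = pullback.mapDesc (φ.app i) (x ≫ π i) (DS.map a) ≫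
        pullback.map _ _ _ _ (DX.map a) (𝟙 _) (𝟙 _) ((Category.comp_id _).trans e₁)
          ((Category.comp_id _).trans e₂) := by
      dsimp [F, pullback.mapDesc]
      ext <;> simp
    have h2 : IsAffineHom (pullback.map _ _ _ _ (DX.map a) (𝟙 _) (𝟙 _) ((Category.comp_id _).trans e₁)
          ((Category.comp_id _).trans e₂)) :=
      MorphismProperty.pullbackMap (P := @IsAffineHom) inferInstance inferInstance e₁ e₂
    rw [h1]
    infer_instance
  have : ∀ i, CompactSpace (F.obj i) := fun i =>
    QuasiCompact.compactSpace_of_compactSpace (pullback.snd (φ.app i) (x ≫ π i))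
  have : ∀ i, QuasiSeparatedSpace (F.obj i) := fun i =>
    quasiSeparatedSpace_of_quasiSeparated (pullback.snd (φ.app i) (x ≫ π i))
  -- connected pieces
  let u : ∀ i, pullback (φ.app i).toNormalization (x ≫ σ i) ⟶ F.obj i := fun i =>
    pullback.lift (pullback.fst _ _) (pullback.snd _ _) (by
      have h := pullback.condition_assoc (f := (φ.app i).toNormalization) (g := x ≫ σ i)
        (φ.app i).fromNormalization
      rw [(φ.app i).toNormalization_fromNormalization, Category.assoc, hσ₂] at h
      exact h)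
  have hW : ∀ i, ConnectedSpace ↥(pullback (φ.app i).toNormalization (x ≫ σ i)) := fun i =>
    haveI := geometricallyConnected_toNormalization_noetherian (φ.app i)
    GeometricallyConnected.geometrically_connectedSpace (x ≫ σ i) _ _ (.of_hasPullback _ _)
  let p' : ∀ i, P ⟶ pullback (φ.app i).toNormalization (x ≫ σ i) := fun i =>
    pullback.lift (pullback.fst g x ≫ q i) (pullback.snd g x)
      (by rw [Category.assoc, ← hσ₁, pullback.condition_assoc])
  have hp : ∀ i, p' i ≫ u i = p i := fun i => by
    apply pullback.hom_ext <;> simp [p, p', u, F]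
  have : ∀ i, Nonempty (F.obj i) := fun i => ⟨u i (hW i).toNonempty.some⟩
  have hne : Nonempty P := Scheme.nonempty_of_isLimit F c hlim
  have : CompactSpace P := QuasiCompact.compactSpace_of_compactSpace (pullback.snd g x)
  refine @ConnectedSpace.mk _ _ (preconnectedSpace_iff_clopen.2 fun s hs => ?_) hne
  obtain ⟨i, Ui, hUi, hUi'⟩ := exists_preimage_eq F c hlim ⟨s, hs.2⟩ hs.1.isCompact
  obtain ⟨j, Vj, hVj, hVj'⟩ := exists_preimage_eq F c hlim ⟨sᶜ, hs.1.isOpen_compl⟩
    hs.2.isClosed_compl.isCompact
  obtain ⟨k, a, b, -⟩ := IsCofilteredOrEmpty.cone_objs i j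
  have hcw : ∀ {i j : I} (a : i ⟶ j) (U : (F.obj j).Opens),
      p i ⁻¹ᵁ F.map a ⁻¹ᵁ U = p j ⁻¹ᵁ U := fun a U => by
    rw [← Scheme.Hom.comp_preimage]
    exact congrArg (fun h => h ⁻¹ᵁ U) (c.w a)
  have hUk : IsCompact (F.map a ⁻¹ᵁ Ui : Set (F.obj k)) := (F.map a).isCompact_preimage hUi
  have hVk : IsCompact (F.map b ⁻¹ᵁ Vj : Set (F.obj k)) := (F.map b).isCompact_preimage hVj
  obtain ⟨l, d, hd⟩ := exists_map_preimage_eq_map_preimage F c hlim (i := k)
    (U := F.map a ⁻¹ᵁ Ui ⊔ F.map b ⁻¹ᵁ Vj) (V := ⊤)
    (by simpa using hUk.union hVk) (by simpa using isCompact_univ)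
    (by
      show p k ⁻¹ᵁ _ = p k ⁻¹ᵁ _
      rw [Scheme.Hom.preimage_sup, hcw, hcw]
      simp only [c] at hUi' hVj'
      rw [hUi', hVj', Scheme.Hom.preimage_top]
      exact Opens.ext (by simp))
  obtain ⟨m, e, he⟩ := exists_map_preimage_eq_map_preimage F c hlim (i := l)
    (U := F.map (d ≫ a) ⁻¹ᵁ Ui ⊓ F.map (d ≫ b) ⁻¹ᵁ Vj) (V := ⊥)
    (QuasiSeparatedSpace.inter_isCompact _ _ (Opens.isOpen _) ((F.map _).isCompact_preimage hUi)
      (Opens.isOpen _) ((F.map _).isCompact_preimage hVj))
    (by simp)
    (by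
      show p l ⁻¹ᵁ _ = p l ⁻¹ᵁ _
      rw [Scheme.Hom.preimage_inf, hcw, hcw]
      simp only [c] at hUi' hVj'
      rw [hUi', hVj']
      exact Opens.ext (by simp))
  let A : (F.obj m).Opens := F.map (e ≫ d ≫ a) ⁻¹ᵁ Ui
  let B : (F.obj m).Opens := F.map (e ≫ d ≫ b) ⁻¹ᵁ Vj
  have hAB : A ⊔ B = ⊤ := by
    rw [show A = F.map e ⁻¹ᵁ F.map d ⁻¹ᵁ F.map a ⁻¹ᵁ Ui by
        simp only [A, ← Scheme.Hom.comp_preimage, ← F.map_comp],
      show B = F.map e ⁻¹ᵁ F.map d ⁻¹ᵁ F.map b ⁻¹ᵁ Vj by
        simp only [B, ← Scheme.Hom.comp_preimage, ← F.map_comp],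
      ← Scheme.Hom.preimage_sup, ← Scheme.Hom.preimage_sup, hd]
    simp
  have hAB' : A ⊓ B = ⊥ := by
    rw [show A = F.map e ⁻¹ᵁ F.map (d ≫ a) ⁻¹ᵁ Ui by
        simp only [A, ← Scheme.Hom.comp_preimage, ← F.map_comp],
      show B = F.map e ⁻¹ᵁ F.map (d ≫ b) ⁻¹ᵁ Vj by
        simp only [B, ← Scheme.Hom.comp_preimage, ← F.map_comp],
      ← Scheme.Hom.preimage_inf, he]
    simp
  have hclopen : IsClopen (u m ⁻¹' (A : Set (F.obj m))) := by
    refine IsClopen.preimage ⟨?_, A.2⟩ (u m).continuous
    rw [← isOpen_compl_iff]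
    have : (A : Set (F.obj m))ᶜ = B :=
      IsCompl.compl_eq ⟨Set.disjoint_iff_inter_eq_empty.2
          (by rw [← Opens.coe_inf, hAB', Opens.coe_bot]),
        codisjoint_iff.2 (show (A : Set (F.obj m)) ∪ B = Set.univ by
          rw [← Opens.coe_sup, hAB, Opens.coe_top])⟩
    exact this ▸ B.2
  have hs' : s = p' m ⁻¹' (u m ⁻¹' (A : Set (F.obj m))) := by
    have h : p m ⁻¹ᵁ A = ⟨s, hs.2⟩ := (hcw _ _).trans hUi'
    rw [← hp m, Scheme.Hom.comp_preimage] at h
    exact congrArg (fun U : P.Opens => (U : Set P)) h.symm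
  rcases isClopen_iff.1 hclopen with h | h
  · left
    rw [hs', h, Set.preimage_empty]
  · right
    rw [hs', h, Set.preimage_univ]

/-- A proper morphism `g` with `g_* O = O` is geometrically connected. -/
theorem geometricallyConnected {X S : Scheme.{u}} (g : X ⟶ S) [IsProper g]
    (hg : ∀ U : S.Opens, IsIso (g.app U)) : GeometricallyConnected g := by
  refine ⟨geometrically_iff_of_isClosedUnderIsomorphisms.mpr fun K _ x => ?_⟩
  obtain ⟨U, hU, hxU, -⟩ :=
    exists_isAffineOpen_mem_and_subset (show x default ∈ (⊤ : S.Opens) from trivial)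
  have hr : Set.range x ⊆ Set.range U.ι := by
    rintro _ ⟨t, rfl⟩
    rw [Scheme.Opens.range_ι, Subsingleton.elim t default]
    exact hxU
  let x' := IsOpenImmersion.lift U.ι x hr
  have hx' : x' ≫ U.ι = x := IsOpenImmersion.lift_fac _ _ _
  have : IsAffine (U : Scheme.{u}) := hU
  have : IsProper (g ∣_ U) := IsZariskiLocalAtTarget.restrict ‹_› U
  have h : ConnectedSpace ↥(pullback (g ∣_ U) x') := by
    refine connectedSpace_pullback_of_compact (g ∣_ U) (fun V => ?_) K x'
    rw [morphismRestrict_app']
    have := hg (U.ι ''ᵁ V)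
    rw [Scheme.Hom.app_eq_appLE] at this
    exact (g.appLE_congr _ rfl (by simp [image_morphismRestrict_preimage]) (IsIso ·)).1 this
  let e : pullback (g ∣_ U) x' ≅ pullback g x := by
    refine IsPullback.isoPullback
      (fst := pullback.fst (g ∣_ U) x' ≫ (g ⁻¹ᵁ U).ι) (snd := pullback.snd (g ∣_ U) x') ?_
    rw [← hx']
    exact ((IsPullback.of_hasPullback (g ∣_ U) x').flip.paste_vert (isPullback_morphismRestrict g U)).flip
  exact e.hom.homeomorph.surjective.connectedSpace e.hom.homeomorph.continuous

theorem geometricallyConnected_toNormalization {X S : Scheme.{u}} (f : X ⟶ S) [IsProper f] :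
    GeometricallyConnected f.toNormalization :=
  haveI := isProper_toNormalization f
  geometricallyConnected f.toNormalization (Groth.Agent.S1340.result f)

end Groth.Agent.H34.Stein
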