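import Groth.Agent.H34.Stein.PushBC
import Groth.Agent.H34.Stein.ReducedFlat
import Groth.Agent.Lib.Henselian.ProperClopen
import Groth.Agent.Lib.Henselian.StrictHenselization
import Groth.Agent.Lib.GeomConn.Geometric

/-!
# The Stein factor over a strictly henselian local ring
-/

set_option autoImplicit false
universe u

open CategoryTheory CategoryTheory.Limits AlgebraicGeometry TopologicalSpace Opposite Topology
open Groth.Agent.H2.Rigid

namespace Groth.Agent.H34.Stein

/-- An open immersion followed by a geometrically reduced morphism is geometrically reduced. -/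
theorem geometricallyReduced_comp {X Y Z : Scheme.{u}} (i : X ⟶ Y) (f : Y ⟶ Z) [IsOpenImmersion i]
    [GeometricallyReduced f] : GeometricallyReduced (i ≫ f) := by
  refine ⟨geometrically_iff_of_isClosedUnderIsomorphisms.mpr fun K _ x => ?_⟩
  have : IsReduced (pullback f x) :=
    GeometricallyReduced.geometrically_isReduced _ _ _ (.of_hasPullback f x)
  exact isReduced_of_isOpenImmersion
    ((pullbackRightPullbackFstIso f x i).inv ≫ pullback.snd i (pullback.fst f x))

/-- Over a separably closed field, connected implies geometrically connected. -/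
theorem geometricallyConnected_of_isSepClosed {k : Type u} [Field k] [IsSepClosed k] {X : Scheme.{u}}
    (π : X ⟶ Spec (CommRingCat.of k)) [ConnectedSpace X] : GeometricallyConnected π := by
  letI : X.Over (Spec (CommRingCat.of k)) := ⟨π⟩
  refine (Groth.Agent.Lib.GeomConn.Geometric.geometricallyConnected_iff_sepClosure k X).2 ?_
  have hb : Function.Bijective (algebraMap k (SeparableClosure k)) :=
    ⟨(algebraMap k (SeparableClosure k)).injective, IsSepClosed.algebraMap_surjective k _⟩
  have : IsIso (CommRingCat.ofHom (algebraMap k (SeparableClosure k))) :=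
    (ConcreteCategory.isIso_iff_bijective _).mpr hb
  exact (pullback.fst π (Spec.map (CommRingCat.ofHom (algebraMap k (SeparableClosure k))))).homeomorph.connectedSpace_iff.mpr
    inferInstance

/-- A morphism of affine schemes that is bijective on global sections is an isomorphism. -/
theorem isIso_of_appTop_bijective {W T : Scheme.{u}} [IsAffine W] [IsAffine T] (a : W ⟶ T)
    (h : Function.Bijective a.appTop.hom) : IsIso a := by
  have : IsIso a.appTop := (ConcreteCategory.isIso_iff_bijective _).mpr h
  have : IsIso (a ≫ T.toSpecΓ) := by rw [Scheme.toSpecΓ_naturality]; infer_instance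
  exact IsIso.of_isIso_comp_right a T.toSpecΓ

variable {A : Type u} [CommRing A] [HenselianLocalRing A]

/-- Over a strictly henselian local ring the Stein factor of a proper flat morphism with geometrically
reduced fibres is étale. -/
theorem etale_of_henselian [IsSepClosed (IsLocalRing.ResidueField A)] {X N : Scheme.{u}}
    (f : X ⟶ Spec (CommRingCat.of A)) [IsProper f] [Flat f] [LocallyOfFinitePresentation f]
    [GeometricallyReduced f] (b : X ⟶ N) (m : N ⟶ Spec (CommRingCat.of A)) [IsFinite m]
    [GeometricallyConnected b] (H : b ≫ m = f) (hb : Push b) : Etale m := by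
  let s : Spec (CommRingCat.of A) := IsLocalRing.closedPoint A
  let V : Set (PrimeSpectrum A) := PrimeSpectrum.zeroLocus (IsLocalRing.maximalIdeal A : Set A)
  have hV : ∀ z : Spec (CommRingCat.of A), z ∈ V ↔ z = s := fun z => by
    refine ⟨fun h => PrimeSpectrum.ext ?_, ?_⟩
    · exact ((IsLocalRing.maximalIdeal.isMaximal A).eq_of_le z.2.ne_top h).symm
    · rintro rfl; exact Set.Subset.refl _
  haveI : HenselianRing A (IsLocalRing.maximalIdeal A) :=
    Groth.Agent.Lib.Henselian.LocalRing.henselianLocalRing_iff_henselianRing.mp ‹_›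
  haveI : IsSepClosed (IsLocalRing.ResidueField ((Spec (CommRingCat.of A)).presheaf.stalk s)) :=
    let e : IsLocalRing.ResidueField A ≃+* (IsLocalRing.maximalIdeal A).ResidueField :=
      RingEquiv.ofBijective
        (algebraMap (A ⧸ IsLocalRing.maximalIdeal A) (IsLocalRing.maximalIdeal A).ResidueField :
          IsLocalRing.ResidueField A →+* (IsLocalRing.maximalIdeal A).ResidueField)
        (Ideal.bijective_algebraMap_quotient_residueField _)
    Groth.Agent.Lib.Henselian.StrictHenselization.isSepClosed_of_ringEquiv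
      (e.trans (Scheme.Spec.residueFieldIso (CommRingCat.of A) s).commRingCatIsoToRingEquiv.symm)
  let S : Set N := m.base ⁻¹' V
  have hdisc : DiscreteTopology S := by
    have hSeq : S = m.base ⁻¹' {s} := Set.ext fun z => hV (m z)
    rw [hSeq]
    exact isDiscrete_iff_discreteTopology.mp (m.isDiscrete_preimage_singleton s)
  have hlift := Groth.Agent.Lib.Henselian.ProperClopen.lifts_of_proper (IsLocalRing.maximalIdeal A) m
    (P := S) (j := Subtype.val) IsEmbedding.subtypeVal Subtype.range_val
  have hW : ∀ x : S, ∃ W : N.Opens, IsClosed (W : Set N) ∧ x.1 ∈ W ∧ ∀ y : S, y.1 ∈ W → y = x :=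
    fun x => by
      obtain ⟨U, ⟨hU, hUx⟩, -⟩ := hlift {x} (isClopen_discrete _)
      exact ⟨⟨U, hU.2⟩, hU.1, (Set.ext_iff.1 hUx x).2 rfl, fun y hy => (Set.ext_iff.1 hUx y).1 hy⟩
  choose W hWc hWx hWu using hW
  refine IsZariskiLocalAtSource.of_iSup_eq_top (P := @Etale) W (eq_top_iff.2 fun y _ => ?_) fun x => ?_
  · obtain ⟨x, hyx, hx⟩ : ∃ x, y ⤳ x ∧ m x = s := by
      have hm : s ∈ m.base '' closure {y} :=
        (IsLocalRing.specializes_closedPoint (m y)).mem_closed (m.isClosedMap _ isClosed_closure)
          ⟨y, subset_closure rfl, rfl⟩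
      obtain ⟨x, hx, hxs⟩ := hm
      exact ⟨x, specializes_iff_mem_closure.2 hx, hxs⟩
    exact Opens.mem_iSup.2 ⟨⟨x, (hV _).2 hx⟩, hyx.mem_open (W ⟨x, (hV _).2 hx⟩).2 (hWx _)⟩
  let U := W x
  haveI : IsClosedImmersion U.ι := IsClosedImmersion.of_isPreimmersion _ (by
    rw [Scheme.Opens.range_ι]; exact hWc x)
  haveI : IsClosedImmersion (b ⁻¹ᵁ U).ι := IsClosedImmersion.of_isPreimmersion _ (by
    rw [Scheme.Opens.range_ι]; exact (hWc x).preimage b.continuous)
  let a : (b ⁻¹ᵁ U).toScheme ⟶ Spec (CommRingCat.of A) := (b ⁻¹ᵁ U).ι ≫ f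
  haveI : GeometricallyReduced a := geometricallyReduced_comp _ f
  have hxs : m x.1 = s := (hV _).1 x.2
  haveI : ConnectedSpace ↥(a.fiber s) := by
    have hpre : a.base ⁻¹' {s} = (b ⁻¹ᵁ U).ι.base ⁻¹' (b.base ⁻¹' {x.1}) := by
      ext z
      refine ⟨fun hz => ?_, fun hz => ?_⟩
      · have hms : m (b ((b ⁻¹ᵁ U).ι z)) = s := by
          rw [← Scheme.Hom.comp_apply, H, ← Scheme.Hom.comp_apply]; exact hz
        exact congrArg Subtype.val (hWu x ⟨_, (hV _).2 hms⟩ z.2)
      · show f ((b ⁻¹ᵁ U).ι z) = s
        rw [← H, Scheme.Hom.comp_apply, show b ((b ⁻¹ᵁ U).ι z) = x.1 from hz, hxs]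
    have hconn : _root_.IsConnected (a.base ⁻¹' {s}) := by
      rw [hpre]
      have himg : (b ⁻¹ᵁ U).ι.base '' ((b ⁻¹ᵁ U).ι.base ⁻¹' (b.base ⁻¹' {x.1})) = b.base ⁻¹' {x.1} := by
        refine Set.image_preimage_eq_of_subset fun z hz => ?_
        rw [Scheme.Opens.range_ι]
        exact show b z ∈ U from (show b z = x.1 from hz) ▸ hWx x
      have hc := b.isConnected_preimage_singleton x.1
      rw [← himg] at hc
      exact ⟨hc.nonempty.of_image, (b ⁻¹ᵁ U).ι.isOpenEmbedding.isInducing.isPreconnected_image.mp
        hc.isPreconnected⟩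
    have := Subtype.connectedSpace hconn
    exact (a.fiberHomeo s).connectedSpace_iff.mpr this
  have hone : MoreMor.nGeomConnComp a s = 1 :=
    (H46.GeomSpread.geometricallyConnected_iff_count a s).1
      (geometricallyConnected_of_isSepClosed (a.fiberToSpecResidueField s))
  haveI : GeometricallyConnected a := by
    refine (GeometricallyConnected.iff_geometricallyConnected_fiber a).2 fun z => ?_
    rw [H46.GeomSpread.geometricallyConnected_iff_count]
    obtain ⟨O, hO, hOo, hsO⟩ := eventually_nhds_iff.1 (eventually_eq_of_flat a s inferInstance)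
    exact (hO z ((IsLocalRing.specializes_closedPoint z).mem_open hOo hsO)).trans hone
  have hpa : Function.Bijective a.appTop.hom := push_of_geometrically a ⊤
  have hba : (b ∣_ U) ≫ U.ι ≫ m = a := by rw [morphismRestrict_ι_assoc, H]
  rw [← hba, Scheme.Hom.comp_appTop] at hpa
  haveI : IsAffine N := isAffine_of_isAffineHom m
  haveI : IsAffine U.toScheme := isAffine_of_isAffineHom U.ι
  have : IsIso (U.ι ≫ m) := isIso_of_appTop_bijective _
    ((Function.Bijective.of_comp_iff' (Push.restrict hb U ⊤) _).1 hpa)
  infer_instance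

end Groth.Agent.H34.Stein
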