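import Groth.Agent.Lib.Cyc.PP.Push
import Groth.Agent.Lib.Snapper.Twist
import Mathlib.AlgebraicGeometry.Normalization

/-!
# Finiteness of the Stein factorization over a Noetherian base
-/

set_option autoImplicit false
universe u

open CategoryTheory CategoryTheory.Limits AlgebraicGeometry Opposite TopologicalSpace

namespace Groth.Agent.H34.Stein

/-- Sections of the structure sheaf over the preimage of an affine open are finite. -/
theorem finite_app {X S : Scheme.{u}} (f : X ⟶ S) [IsProper f] [IsLocallyNoetherian S]
    {U : S.Opens} (hU : IsAffineOpen U) : (f.app U).hom.Finite := by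
  have : IsLocallyNoetherian X := LocallyOfFiniteType.isLocallyNoetherian f
  have h := Lib.Cyc.PP.Push.finite_sections f (Lib.Snapper.Twist.isCoh_structureModule X) hU
  exact h

/-- The normalization of a locally Noetherian scheme in a proper scheme over it is finite. -/
theorem isFinite_fromNormalization {X S : Scheme.{u}} (f : X ⟶ S) [IsProper f]
    [IsLocallyNoetherian S] : IsFinite f.fromNormalization := by
  refine ⟨fun U hU => ?_⟩
  rw [f.fromNormalization_app hU]
  simp only [CommRingCat.hom_comp, CommRingCat.hom_ofHom]
  refine RingHom.Finite.comp (.of_surjective _ (ConcreteCategory.bijective_of_isIso _).2) ?_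
  have : IsNoetherianRing Γ(S, U) := IsLocallyNoetherian.component_noetherian ⟨U, hU⟩
  let := (f.app U).hom.toAlgebra
  have : Module.Finite Γ(S, U) Γ(X, f ⁻¹ᵁ U) := finite_app f hU
  show RingHom.Finite (algebraMap Γ(S, U) (integralClosure Γ(S, U) Γ(X, f ⁻¹ᵁ U)))
  rw [RingHom.finite_algebraMap]
  exact Module.Finite.of_injective (integralClosure Γ(S, U) Γ(X, f ⁻¹ᵁ U)).val.toLinearMap
    Subtype.val_injective

end Groth.Agent.H34.Stein
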