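import Groth.Agent.H34.Stein.HenselianEtale
import Groth.Agent.H34.Stein.Connected
import Mathlib.RingTheory.Etale.Descent
import Mathlib.RingTheory.Flat.Localization
import Mathlib.AlgebraicGeometry.Pullbacks

/-!
# The Stein factor of a proper flat morphism with geometrically reduced fibres is finite étale
-/

set_option autoImplicit false
universe u

open CategoryTheory CategoryTheory.Limits AlgebraicGeometry TopologicalSpace Opposite
open Groth.Agent.H2.Rigid
open scoped TensorProduct

namespace Groth.Agent.H34.Stein

/-- Étaleness of a finite algebra can be checked after base change to the strict henselizations. -/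
theorem algebraEtale_of_strictHenselization {R B : Type u} [CommRing R] [IsNoetherianRing R] [CommRing B]
    [Algebra R B] [Module.Finite R B]
    (h : ∀ (p : Ideal R) [p.IsPrime],
      ∀ [Algebra R (Groth.Agent.Lib.Henselian.StrictHenselization.StrictHenselization (Localization.AtPrime p))]
        [IsScalarTower R (Localization.AtPrime p) (Groth.Agent.Lib.Henselian.StrictHenselization.StrictHenselization (Localization.AtPrime p))],
      Algebra.Etale (Groth.Agent.Lib.Henselian.StrictHenselization.StrictHenselization (Localization.AtPrime p))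
        (Groth.Agent.Lib.Henselian.StrictHenselization.StrictHenselization (Localization.AtPrime p) ⊗[R] B)) :
    Algebra.Etale R B := by
  have hA : ∀ (p : Ideal R) [p.IsPrime], Algebra.Etale (Localization.AtPrime p) (Localization.AtPrime p ⊗[R] B) := by
    intro p _
    let A := Localization.AtPrime p
    let T := Groth.Agent.Lib.Henselian.StrictHenselization.StrictHenselization A
    letI : Algebra R T := ((algebraMap A T).comp (algebraMap R A)).toAlgebra
    haveI : IsScalarTower R A T := IsScalarTower.of_algebraMap_eq fun _ => rfl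
    haveI : Module.FaithfullyFlat A T := Groth.Agent.Lib.Henselian.StrictHenselization.faithfullyFlat A T
    haveI : Algebra.Etale T (T ⊗[R] B) := h p
    haveI : Algebra.Etale T (T ⊗[A] (A ⊗[R] B)) :=
      Algebra.Etale.of_equiv (Algebra.TensorProduct.cancelBaseChange R A T T B).symm
    exact Algebra.Etale.of_etale_tensorProduct_of_faithfullyFlat T
  haveI : ∀ (p : Ideal R) [p.IsMaximal], IsLocalizedModule.AtPrime p
      (TensorProduct.mk R (Localization.AtPrime p) B 1) := fun p _ =>
    (isLocalizedModule_iff_isBaseChange p.primeCompl (Localization.AtPrime p) _).2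
      (TensorProduct.isBaseChange R B (Localization.AtPrime p))
  haveI : Module.Flat R B := Module.flat_of_isLocalized_maximal R B
    (fun p _ => Localization.AtPrime p ⊗[R] B) (fun p _ => TensorProduct.mk R (Localization.AtPrime p) B 1)
    fun p _ => by
      haveI := hA p
      exact Module.Flat.trans R (Localization.AtPrime p) _
  haveI : Algebra.FormallyUnramified R B := by
    constructor
    haveI : ∀ (p : Ideal R) [p.IsMaximal], IsLocalizedModule.AtPrime p
        (TensorProduct.mk R (Localization.AtPrime p) Ω[B⁄R] 1) := fun p _ =>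
      (isLocalizedModule_iff_isBaseChange p.primeCompl (Localization.AtPrime p) _).2
        (TensorProduct.isBaseChange R Ω[B⁄R] (Localization.AtPrime p))
    refine Module.subsingleton_of_localization_maximal (R := R)
      (fun p _ => Localization.AtPrime p ⊗[R] Ω[B⁄R])
      (fun p _ => TensorProduct.mk R (Localization.AtPrime p) Ω[B⁄R] 1) fun p _ => ?_
    haveI := hA p
    letI := Algebra.TensorProduct.rightAlgebra (R := R) (A := Localization.AtPrime p) (B := B)
    exact (KaehlerDifferential.tensorKaehlerEquivBase R (Localization.AtPrime p) B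
      (Localization.AtPrime p ⊗[R] B)).subsingleton
  haveI : Module.FinitePresentation R B := Module.finitePresentation_of_finite R B
  exact Algebra.Etale.of_formallyUnramified_of_flat

/-- The affine case. -/
theorem etale_specMap {R B : CommRingCat.{u}} [IsNoetherianRing R] (φ : R ⟶ B) (hφ : φ.hom.Finite)
    {X : Scheme.{u}} (f : X ⟶ Spec R) [IsProper f] [Flat f] [LocallyOfFinitePresentation f]
    [GeometricallyReduced f] (b : X ⟶ Spec B) [GeometricallyConnected b] (H : b ≫ Spec.map φ = f)
    (hb : Push b) : Etale (Spec.map φ) := by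
  letI : Algebra R B := φ.hom.toAlgebra
  haveI : Module.Finite R B := hφ
  rw [HasRingHomProperty.Spec_iff (P := @Etale)]
  refine RingHom.etale_algebraMap.2 (algebraEtale_of_strictHenselization fun p _ _ _ => ?_)
  let T := Groth.Agent.Lib.Henselian.StrictHenselization.StrictHenselization (Localization.AtPrime p)
  haveI : Module.Flat (Localization.AtPrime p) T :=
    Groth.Agent.Lib.Henselian.StrictHenselization.flat (Localization.AtPrime p) T
  haveI : Module.Flat R T := Module.Flat.trans R (Localization.AtPrime p) T
  haveI : IsSepClosed (IsLocalRing.ResidueField T) :=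
    Groth.Agent.Lib.Henselian.StrictHenselization.isSepClosed_of_ringEquiv
      (Groth.Agent.Lib.Henselian.StrictHenselization.residueEquiv (Localization.AtPrime p)).symm
  let g : Spec (CommRingCat.of T) ⟶ Spec R := Spec.map (CommRingCat.ofHom (algebraMap R T))
  haveI : Flat g := (HasRingHomProperty.Spec_iff (P := @Flat)).2
    (RingHom.flat_algebraMap_iff.2 (inferInstance : Module.Flat R T))
  let m' : Spec (CommRingCat.of (T ⊗[R] B)) ⟶ Spec (CommRingCat.of T) :=
    Spec.map (CommRingCat.ofHom Algebra.TensorProduct.includeLeftRingHom)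
  let q : Spec (CommRingCat.of (T ⊗[R] B)) ⟶ Spec B :=
    Spec.map (CommRingCat.ofHom Algebra.TensorProduct.includeRight.toRingHom)
  have hsq : IsPullback q m' (Spec.map φ) g :=
    (isPullback_SpecMap_of_isPushout _ _ _ _ (CommRingCat.isPushout_tensorProduct R T B)).flip
  haveI : Flat q := MorphismProperty.of_isPullback hsq.flip inferInstance
  haveI : IsFinite (Spec.map φ) := (IsFinite.SpecMap_iff φ).2 hφ
  haveI : IsProper b := by
    haveI : IsProper (b ≫ Spec.map φ) := by rw [H]; infer_instance
    exact IsProper.of_comp b (Spec.map φ)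
  have hpb := IsPullback.of_hasPullback b q
  have hpaste : IsPullback (pullback.fst b q) (pullback.snd b q ≫ m') f g := H ▸ hpb.paste_vert hsq
  haveI : IsProper (pullback.snd b q ≫ m') := MorphismProperty.of_isPullback hpaste inferInstance
  haveI : Flat (pullback.snd b q ≫ m') := MorphismProperty.of_isPullback hpaste inferInstance
  haveI : LocallyOfFinitePresentation (pullback.snd b q ≫ m') :=
    MorphismProperty.of_isPullback hpaste inferInstance
  haveI : GeometricallyReduced (pullback.snd b q ≫ m') := MorphismProperty.of_isPullback hpaste inferInstance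
  haveI : IsFinite m' := MorphismProperty.of_isPullback hsq inferInstance
  have : Etale m' := etale_of_henselian (pullback.snd b q ≫ m') (pullback.snd b q) m' rfl
    (push_flat_baseChange hpb hb)
  exact RingHom.etale_algebraMap.1 ((HasRingHomProperty.Spec_iff (P := @Etale)).1 this)

/-- Over a locally Noetherian base the finite part of such a factorization is étale. -/
theorem etale_of_push {X N S : Scheme.{u}} [IsLocallyNoetherian S] (f : X ⟶ S) [IsProper f] [Flat f]
    [LocallyOfFinitePresentation f] [GeometricallyReduced f] (b : X ⟶ N) (m : N ⟶ S) [IsFinite m]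
    [GeometricallyConnected b] (H : b ≫ m = f) (hb : Push b) : Etale m := by
  refine IsZariskiLocalAtTarget.of_iSup_eq_top (P := @Etale) _ (iSup_affineOpens_eq_top S) fun U => ?_
  have hV : IsAffineOpen (m ⁻¹ᵁ U.1) := U.2.preimage m
  haveI : IsNoetherianRing Γ(S, U.1) := IsLocallyNoetherian.component_noetherian U
  have hsqf := (isPullback_morphismRestrict f U.1).flip
  let fU : (f ⁻¹ᵁ U.1).toScheme ⟶ Spec Γ(S, U.1) := (f ∣_ U.1) ≫ U.2.isoSpec.hom
  let mU : Spec Γ(N, m ⁻¹ᵁ U.1) ⟶ Spec Γ(S, U.1) := hV.isoSpec.inv ≫ (m ∣_ U.1) ≫ U.2.isoSpec.hom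
  let bU : (b ⁻¹ᵁ m ⁻¹ᵁ U.1).toScheme ⟶ Spec Γ(N, m ⁻¹ᵁ U.1) := (b ∣_ (m ⁻¹ᵁ U.1)) ≫ hV.isoSpec.hom
  let fc : (b ⁻¹ᵁ m ⁻¹ᵁ U.1).toScheme ⟶ Spec Γ(S, U.1) := bU ≫ mU
  have hfc : fc = ((b ≫ m) ∣_ U.1) ≫ U.2.isoSpec.hom := by simp [fc, bU, mU, morphismRestrict_comp]
  have h4 : ∀ (f' : X ⟶ S), f' = f → IsProper (f' ∣_ U.1) ∧ Flat (f' ∣_ U.1) ∧
      LocallyOfFinitePresentation (f' ∣_ U.1) ∧ GeometricallyReduced (f' ∣_ U.1) := by
    rintro _ rfl
    exact ⟨MorphismProperty.of_isPullback hsqf inferInstance,
      MorphismProperty.of_isPullback hsqf inferInstance,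
      MorphismProperty.of_isPullback hsqf inferInstance, inferInstance⟩
  obtain ⟨hp₁, hp₂, hp₃, hp₄⟩ := h4 (b ≫ m) H
  haveI : IsProper fc := by
    have h' : IsProper (((b ≫ m) ∣_ U.1) ≫ U.2.isoSpec.hom) := inferInstance
    rw [hfc]; exact h'
  haveI : Flat fc := by
    have h' : Flat (((b ≫ m) ∣_ U.1) ≫ U.2.isoSpec.hom) := inferInstance
    rw [hfc]; exact h'
  haveI : LocallyOfFinitePresentation fc := by
    have h' : LocallyOfFinitePresentation (((b ≫ m) ∣_ U.1) ≫ U.2.isoSpec.hom) := inferInstance
    rw [hfc]; exact h'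
  haveI : GeometricallyReduced fc := by
    have h' : GeometricallyReduced (((b ≫ m) ∣_ U.1) ≫ U.2.isoSpec.hom) :=
      (MorphismProperty.cancel_right_of_respectsIso @GeometricallyReduced _ _).2 hp₄
    rw [hfc]; exact h'
  haveI : GeometricallyConnected bU :=
    (MorphismProperty.cancel_right_of_respectsIso @GeometricallyConnected _ _).2 inferInstance
  haveI : IsFinite mU := inferInstanceAs (IsFinite (_ ≫ _ ≫ _))
  haveI : IsProper b := by
    haveI : IsProper (b ≫ m) := by rw [H]; infer_instance
    exact IsProper.of_comp b m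
  have hbU : Push bU := by
    refine push_flat_baseChange (h' := 𝟙 _) (h := hV.isoSpec.inv) ?_ (Push.restrict hb (m ⁻¹ᵁ U.1))
    exact IsPullback.of_horiz_isIso ⟨by simp [bU]⟩
  obtain ⟨φ, hφ⟩ := Spec.map_surjective mU
  have hfin : φ.hom.Finite := (IsFinite.SpecMap_iff φ).1 (hφ ▸ inferInstance)
  have he : Etale (Spec.map φ) := etale_specMap φ hfin fc bU (by rw [hφ]) hbU
  rw [hφ] at he
  exact (MorphismProperty.cancel_right_of_respectsIso @Etale _ _).1
    ((MorphismProperty.cancel_left_of_respectsIso @Etale hV.isoSpec.inv _).1 he)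

end Groth.Agent.H34.Stein
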