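import Mathlib.LinearAlgebra.FreeModule.Finite.Matrix
import Mathlib.FieldTheory.IsAlgClosed.Basic
import Mathlib.RingTheory.Artinian.Module
import Mathlib.RingTheory.Flat.Equalizer
import Mathlib.RingTheory.Flat.TorsionFree
import Mathlib.RingTheory.TensorProduct.Pi
import Mathlib.LinearAlgebra.Dimension.Constructions

/-!
# Geometric points of finite free algebras
-/

set_option autoImplicit false
universe u

open scoped TensorProduct

namespace Groth.Agent.H34.Stein.DvrAlg

/-- A reduced finite algebra over an algebraically closed field has as many points as its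
dimension. -/
theorem card_algHom_eq_finrank (Ω A : Type u) [Field Ω] [IsAlgClosed Ω] [CommRing A] [Algebra Ω A]
    [Module.Finite Ω A] [IsReduced A] : Nat.card (A →ₐ[Ω] Ω) = Module.finrank Ω A := by
  classical
  refine le_antisymm (card_algHom_le_finrank Ω A Ω) ?_
  have : IsArtinianRing A := isArtinian_of_tower Ω inferInstance
  have : Fintype (MaximalSpectrum A) := Fintype.ofFinite _
  let e : A ≃ₐ[Ω] ((m : MaximalSpectrum A) → A ⧸ m.asIdeal) :=
    AlgEquiv.ofBijective (Pi.algHom Ω _ fun m : MaximalSpectrum A => Ideal.Quotient.mkₐ Ω m.asIdeal)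
      (by
        convert (IsArtinianRing.equivPi A).bijective
        ext x m
        rfl)
  let q : ∀ m : MaximalSpectrum A, (A ⧸ m.asIdeal) →ₐ[Ω] Ω := fun m =>
    haveI : m.asIdeal.IsMaximal := m.isMaximal
    letI := Ideal.Quotient.field m.asIdeal
    haveI : Algebra.IsAlgebraic Ω (A ⧸ m.asIdeal) := Algebra.IsAlgebraic.of_finite _ _
    IsAlgClosed.lift
  have hq : ∀ m, Function.Bijective (q m) := fun m => by
    haveI : m.asIdeal.IsMaximal := m.isMaximal
    letI := Ideal.Quotient.field m.asIdeal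
    exact ⟨(q m).toRingHom.injective, fun x => ⟨algebraMap Ω _ x, (q m).commutes x⟩⟩
  have hfin : Module.finrank Ω A = Nat.card (MaximalSpectrum A) := by
    rw [e.toLinearEquiv.finrank_eq,
      Module.finrank_pi_fintype, Nat.card_eq_fintype_card, ← Finset.card_univ, Finset.card_eq_sum_ones]
    refine Finset.sum_congr rfl fun m _ => ?_
    rw [(AlgEquiv.ofBijective (q m) (hq m)).toLinearEquiv.finrank_eq, Module.finrank_self]
  have : Finite (A →ₐ[Ω] Ω) := inferInstance
  rw [hfin]
  refine Nat.card_le_card_of_injective (fun m => (q m).comp (Ideal.Quotient.mkₐ Ω m.asIdeal)) ?_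
  intro m m' h
  have hker : ∀ n : MaximalSpectrum A,
      RingHom.ker ((q n).comp (Ideal.Quotient.mkₐ Ω n.asIdeal)).toRingHom = n.asIdeal := fun n => by
    ext x
    rw [RingHom.mem_ker]
    exact (map_eq_zero_iff (q n) (hq n).1).trans Ideal.Quotient.eq_zero_iff_mem
  exact MaximalSpectrum.ext (by rw [← hker m, ← hker m']; exact congrArg (fun φ => RingHom.ker φ.toRingHom) h)

/-- Points of an algebra and of its base change. -/
noncomputable def baseChangePoints (R Ω Γ : Type u) [CommRing R] [CommRing Ω] [Algebra R Ω] [CommRing Γ]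
    [Algebra R Γ] : (Γ →ₐ[R] Ω) ≃ (Ω ⊗[R] Γ →ₐ[Ω] Ω) where
  toFun σ := Algebra.TensorProduct.lift (AlgHom.id Ω Ω) σ fun _ _ => .all _ _
  invFun τ := (τ.restrictScalars R).comp Algebra.TensorProduct.includeRight
  left_inv σ := by ext x; simp
  right_inv τ := by ext; simp

/-- The geometric points of a finite free algebra are most numerous where the algebra is reduced. -/
theorem card_algHom_le (R Γ Ω Ω' : Type u) [CommRing R] [Nontrivial R] [CommRing Γ] [Algebra R Γ]
    [Module.Finite R Γ] [Module.Free R Γ] [Field Ω] [IsAlgClosed Ω] [Algebra R Ω] [Field Ω']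
    [Algebra R Ω'] [IsReduced (Ω ⊗[R] Γ)] :
    Nat.card (Γ →ₐ[R] Ω') ≤ Nat.card (Γ →ₐ[R] Ω) := by
  rw [Nat.card_congr (baseChangePoints R Ω Γ), card_algHom_eq_finrank Ω (Ω ⊗[R] Γ),
    Nat.card_congr (baseChangePoints R Ω' Γ)]
  refine (card_algHom_le_finrank Ω' (Ω' ⊗[R] Γ) Ω').trans_eq ?_
  rw [Module.finrank_baseChange, Module.finrank_baseChange]

theorem finite_algHom (R Γ Ω : Type u) [CommRing R] [CommRing Γ] [Algebra R Γ] [Module.Finite R Γ]
    [Field Ω] [Algebra R Ω] : Finite (Γ →ₐ[R] Ω) :=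
  Finite.of_equiv _ (baseChangePoints R Ω Γ).symm

/-- Base change of a saturated subalgebra of a product with reduced base changes is reduced. -/
theorem isReduced_baseChange (R Ω Γ : Type u) [CommRing R] [IsDomain R] [IsPrincipalIdealRing R]
    [CommRing Ω] [Algebra R Ω] [CommRing Γ] [Algebra R Γ] {ι : Type u} [Finite ι] (B : ι → Type u)
    [∀ i, CommRing (B i)] [∀ i, Algebra R (B i)] (ρ : Γ →ₐ[R] (∀ i, B i))
    (hρ : Function.Injective ρ)
    (hsat : ∀ (a : R) (t : ∀ i, B i), a ≠ 0 → a • t ∈ ρ.range → t ∈ ρ.range)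
    (hB : ∀ i, IsReduced (Ω ⊗[R] B i)) : IsReduced (Ω ⊗[R] Γ) := by
  classical
  have := Fintype.ofFinite ι
  let P := LinearMap.range ρ.toLinearMap
  have htf : Submodule.torsion R ((∀ i, B i) ⧸ P) = ⊥ := by
    rw [eq_bot_iff]
    intro x hx
    obtain ⟨⟨a, ha⟩, hax⟩ := hx
    obtain ⟨t, rfl⟩ := Submodule.Quotient.mk_surjective P x
    rw [Submodule.mem_bot, Submodule.Quotient.mk_eq_zero]
    have h1 : a • t ∈ P := (Submodule.Quotient.mk_eq_zero P).1 (by
      rw [Submodule.Quotient.mk_smul]; exact hax)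
    obtain ⟨s, hs⟩ := h1
    obtain ⟨s', hs'⟩ := hsat a t (nonZeroDivisors.ne_zero ha) ⟨s, hs⟩
    exact ⟨s', hs'⟩
  have : Module.Flat R ((∀ i, B i) ⧸ P) := Module.Flat.flat_iff_torsion_eq_bot_of_isBezout.2 htf
  have hinj : Function.Injective (ρ.toLinearMap.lTensor Ω) :=
    LinearMap.lTensor_injective_of_exact_of_flat P.mkQ (Submodule.mkQ_surjective _) ρ.toLinearMap hρ
      (LinearMap.exact_iff.2 (Submodule.ker_mkQ _)) Ω
  let Φ : Ω ⊗[R] Γ →ₐ[R] ∀ i, Ω ⊗[R] B i :=
    ((Algebra.TensorProduct.piRight R R Ω B).toAlgHom).comp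
      (Algebra.TensorProduct.map (AlgHom.id R Ω) ρ)
  exact isReduced_of_injective Φ
    ((Algebra.TensorProduct.piRight R R Ω B).injective.comp hinj)

end Groth.Agent.H34.Stein.DvrAlg
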