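import Groth.Agent.H34.Stein.DvrAlg
import Groth.Agent.H34.Stein.GeomCount
import Groth.Agent.H34.GeomPts.Count
import Groth.Agent.H75.RedSub
import Mathlib.RingTheory.DiscreteValuationRing.Basic
import Mathlib.RingTheory.PrincipalIdealDomain
import Mathlib.LinearAlgebra.FreeModule.PID
import Mathlib.AlgebraicGeometry.Pullbacks

/-!
# Geometric connected components of proper schemes over a discrete valuation ring
-/

set_option autoImplicit false
universe u

open CategoryTheory CategoryTheory.Limits AlgebraicGeometry TopologicalSpace Opposite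
open scoped TensorProduct

namespace Groth.Agent.H34.Stein.DvrCount

variable {R : Type u} [CommRing R]

/-- The algebra structure on global sections. -/
noncomputable def glob {Z : Scheme.{u}} (f : Z ⟶ Spec (CommRingCat.of R)) :
    CommRingCat.of R ⟶ Γ(Z, ⊤) :=
  (Scheme.ΓSpecIso (CommRingCat.of R)).inv ≫ f.appTop

theorem toSpecΓ_glob {Z : Scheme.{u}} (f : Z ⟶ Spec (CommRingCat.of R)) :
    Z.toSpecΓ ≫ Spec.map (glob f) = f := by
  rw [glob, Spec.map_comp, ← Scheme.toSpecΓ_naturality_assoc, toSpecΓ_SpecMap_ΓSpecIso_inv]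
  simp

theorem fromSpec_glob {Z : Scheme.{u}} (f : Z ⟶ Spec (CommRingCat.of R)) {U : Z.Opens}
    (hU : IsAffineOpen U) :
    hU.fromSpec ≫ f = Spec.map (glob f ≫ Z.presheaf.map (homOfLE (le_top (a := U))).op) := by
  conv_lhs => rw [← toSpecΓ_glob f, ← Category.assoc, hU.fromSpec_toSpecΓ, ← Spec.map_comp]

theorem finite_glob [IsNoetherianRing R] {Z : Scheme.{u}} (f : Z ⟶ Spec (CommRingCat.of R))
    [IsProper f] : (glob f).hom.Finite := by
  have h := finite_app f (isAffineOpen_top (Spec (CommRingCat.of R)))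
  simp only [glob, CommRingCat.hom_comp]
  exact RingHom.Finite.comp h (.of_surjective _ (ConcreteCategory.bijective_of_isIso _).2)

/-- The geometric points of the Stein factor are those of the global sections. -/
theorem card_lift_eq {Z : Scheme.{u}} (f : Z ⟶ Spec (CommRingCat.of R)) [IsProper f]
    (Ω : Type u) [Field Ω] [Algebra R Ω] :
    letI := (glob f).hom.toAlgebra
    Nonempty ((Γ(Z, ⊤) →ₐ[R] Ω) ≃ H54.GeomLift.Lift (k := Ω) f.fromNormalization
      (Spec.map (CommRingCat.ofHom (algebraMap R Ω)))) := by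
  letI := (glob f).hom.toAlgebra
  have : IsAffine f.normalization := isAffine_of_isAffineHom f.fromNormalization
  have : IsIso f.toNormalization.appTop := Groth.Agent.S1340.result f ⊤
  let i : f.normalization ≅ Spec Γ(Z, ⊤) :=
    f.normalization.isoSpec ≪≫ (Scheme.Spec.mapIso (asIso f.toNormalization.appTop).op).symm
  have hi : i.hom ≫ Spec.map (glob f) = f.fromNormalization := by
    have : glob f = glob f.fromNormalization ≫ f.toNormalization.appTop := by
      rw [glob, glob, Category.assoc, ← Scheme.Hom.comp_appTop, f.toNormalization_fromNormalization]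
    rw [this, Spec.map_comp]
    simp only [i, Iso.trans_hom, Iso.symm_hom, Functor.mapIso_inv, Iso.op_inv, asIso_inv, Scheme.Spec_map,
      Quiver.Hom.unop_op, Category.assoc, ← Spec.map_comp_assoc, IsIso.hom_inv_id, Spec.map_id,
      Category.id_comp, Scheme.isoSpec_hom]
    exact toSpecΓ_glob _
  refine ⟨⟨fun σ => ⟨Spec.map (CommRingCat.ofHom σ.toRingHom) ≫ i.inv, ?_⟩, fun s =>
    ⟨(Spec.preimage (s.1 ≫ i.hom)).hom, fun r => ?_⟩, fun σ => ?_, fun s => ?_⟩⟩
  · rw [Category.assoc, ← hi, i.inv_hom_id_assoc, ← Spec.map_comp]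
    exact congrArg Spec.map (CommRingCat.hom_ext σ.comp_algebraMap)
  · have h1 : glob f ≫ Spec.preimage (s.1 ≫ i.hom) = CommRingCat.ofHom (algebraMap R Ω) := by
      apply Spec.map_injective
      rw [Spec.map_comp, Spec.map_preimage, Category.assoc, hi]
      exact s.2
    exact congr($h1 r)
  · refine AlgHom.ext fun x => ?_
    show (Spec.preimage ((Spec.map (CommRingCat.ofHom σ.toRingHom) ≫ i.inv) ≫ i.hom)).hom x = σ x
    simp [Spec.preimage_map]
  · refine Subtype.ext ?_
    show Spec.map (CommRingCat.ofHom (Spec.preimage (s.1 ≫ i.hom)).hom) ≫ i.inv = s.1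
    rw [CommRingCat.ofHom_hom, Spec.map_preimage, Category.assoc, i.hom_inv_id, Category.comp_id]

variable [IsDomain R]

/-- Multiplication by a nonzero scalar is injective on sections. -/
theorem eq_zero_of_mul {Z : Scheme.{u}} [IsReduced Z] (f : Z ⟶ Spec (CommRingCat.of R))
    (hgen : ∀ z : Z, ∃ x : Z, x ⤳ z ∧ (f x).asIdeal = ⊥) {a : R} (ha : a ≠ 0) {V : Z.Opens}
    (s : Γ(Z, V)) (h : Z.presheaf.map (homOfLE (le_top (a := V))).op (glob f a) * s = 0) : s = 0 := by
  refine (basicOpen_eq_bot_iff s).1 (Opens.ext (Set.eq_empty_iff_forall_notMem.2 fun z hz => ?_))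
  obtain ⟨x, hxz, hx⟩ := hgen z
  have h1 : x ∈ Z.basicOpen s := hxz.mem_open (Z.basicOpen s).isOpen hz
  have h2 : x ∈ Z.basicOpen (Z.presheaf.map (homOfLE (le_top (a := V))).op (glob f a)) := by
    rw [Scheme.basicOpen_res]
    refine ⟨Z.basicOpen_le s h1, ?_⟩
    show x ∈ Z.basicOpen (f.appTop ((Scheme.ΓSpecIso (CommRingCat.of R)).inv a))
    rw [← Scheme.preimage_basicOpen_top]
    show f x ∈ (Spec (CommRingCat.of R)).basicOpen ((Scheme.ΓSpecIso (CommRingCat.of R)).inv a)
    rw [basicOpen_eq_of_affine', Iso.inv_hom_id_apply]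
    show a ∉ (f x).asIdeal
    rw [hx]
    exact fun h' => ha (Ideal.mem_bot.1 h')
  have h3 : x ∈ Z.basicOpen (Z.presheaf.map (homOfLE (le_top (a := V))).op (glob f a) * s) := by
    rw [Scheme.basicOpen_mul]; exact ⟨h2, h1⟩
  rw [h, Scheme.basicOpen_zero] at h3
  exact h3

variable [IsPrincipalIdealRing R]

/-- The global sections become reduced after a base change with reduced fibre. -/
theorem isReduced_baseChange {Z : Scheme.{u}} [IsReduced Z] [CompactSpace Z]
    (f : Z ⟶ Spec (CommRingCat.of R)) (hgen : ∀ z : Z, ∃ x : Z, x ⤳ z ∧ (f x).asIdeal = ⊥)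
    (Ω : Type u) [Field Ω] [Algebra R Ω]
    (hred : IsReduced (pullback f (Spec.map (CommRingCat.ofHom (algebraMap R Ω))))) :
    letI := (glob f).hom.toAlgebra
    _root_.IsReduced (Ω ⊗[R] Γ(Z, ⊤)) := by
  classical
  letI := (glob f).hom.toAlgebra
  obtain ⟨s, hs⟩ := isCompact_univ.elim_finite_subcover (fun U : Z.affineOpens => (U.1 : Set Z))
    (fun U => U.1.isOpen) (fun z _ => by
      obtain ⟨U, hU, hz, -⟩ := exists_isAffineOpen_mem_and_subset (show z ∈ (⊤ : Z.Opens) from trivial)
      exact Set.mem_iUnion.2 ⟨⟨U, hU⟩, hz⟩)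
  let B : s → Type u := fun i => Γ(Z, i.1.1)
  let res : ∀ i : s, Γ(Z, ⊤) →+* B i := fun i => (Z.presheaf.map (homOfLE le_top).op).hom
  letI : ∀ i : s, Algebra R (B i) := fun i => ((res i).comp (glob f).hom).toAlgebra
  let ρ : Γ(Z, ⊤) →ₐ[R] (∀ i, B i) := Pi.algHom R B fun i => { res i with commutes' := fun _ => rfl }
  have hcov : (⊤ : Z.Opens) ≤ ⨆ i : s, i.1.1 := fun z _ => by
    obtain ⟨U, hU, hz⟩ := Set.mem_iUnion₂.1 (hs (Set.mem_univ z))
    exact Opens.mem_iSup.2 ⟨⟨U, hU⟩, hz⟩
  have hρ : Function.Injective ρ := fun a b e =>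
    Z.sheaf.eq_of_locally_eq' (fun i : s => i.1.1) ⊤ (fun i => homOfLE le_top) hcov a b
      fun i => congrFun e i
  refine DvrAlg.isReduced_baseChange R Ω Γ(Z, ⊤) B ρ hρ (fun a t ha ht => ?_) (fun i => ?_)
  · obtain ⟨g, hg⟩ := ht
    have hcompat : TopCat.Presheaf.IsCompatible Z.presheaf (fun i : s => i.1.1) t := by
      intro i j
      apply eq_of_sub_eq_zero
      refine eq_zero_of_mul f hgen ha _ ?_
      have hi : ∀ k : s, res k (glob f a) * t k = res k g := fun k => (congrFun hg k).symm
      rw [mul_sub, sub_eq_zero]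
      have e1 : ∀ {k : s} {V : Z.Opens} (hV : V ⟶ k.1.1),
          Z.presheaf.map (homOfLE (le_top (a := V))).op (glob f a) * Z.presheaf.map hV.op (t k) =
            Z.presheaf.map (homOfLE (le_top (a := V))).op g := fun {k V} hV => by
        have h2 := congrArg (Z.presheaf.map hV.op) (hi k)
        rw [map_mul] at h2
        have hres : ∀ x, Z.presheaf.map hV.op (res k x) =
            Z.presheaf.map (homOfLE (le_top (a := V))).op x := fun x => by
          show (Z.presheaf.map (homOfLE (le_top (a := k.1.1))).op ≫ Z.presheaf.map hV.op) x = _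
          rw [← Functor.map_comp]
          rfl
        rw [hres, hres] at h2
        exact h2
      exact (e1 _).trans (e1 _).symm
    obtain ⟨t', ht', -⟩ := Z.sheaf.existsUnique_gluing' (fun i : s => i.1.1) ⊤
      (fun i => homOfLE le_top) hcov t hcompat
    exact ⟨t', funext ht'⟩
  · obtain ⟨⟨U, hU⟩, hUs⟩ := i
    let φ := glob f ≫ Z.presheaf.map (homOfLE (le_top (a := U))).op
    letI : Algebra R Γ(Z, U) := φ.hom.toAlgebra
    let t := Spec.map (CommRingCat.ofHom (algebraMap R Ω))
    let j : pullback (hU.fromSpec ≫ f) t ⟶ pullback f t :=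
      pullback.lift (pullback.fst _ _ ≫ hU.fromSpec) (pullback.snd _ _)
        (by rw [Category.assoc, pullback.condition])
    have hsq : IsPullback (pullback.fst (hU.fromSpec ≫ f) t) j hU.fromSpec (pullback.fst f t) :=
      IsPullback.of_bot (by
        rw [pullback.lift_snd]
        exact IsPullback.of_hasPullback (hU.fromSpec ≫ f) t) (pullback.lift_fst _ _ _).symm
        (IsPullback.of_hasPullback f t)
    have : IsOpenImmersion j := MorphismProperty.of_isPullback hsq inferInstance
    have : IsReduced (pullback (hU.fromSpec ≫ f) t) := isReduced_of_isOpenImmersion j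
    let e : pullback (hU.fromSpec ≫ f) t ≅ Spec (CommRingCat.of (Γ(Z, U) ⊗[R] Ω)) :=
      pullback.congrHom (fromSpec_glob f hU) rfl ≪≫ pullbackSpecIso R Γ(Z, U) Ω
    have : IsReduced (Spec (CommRingCat.of (Γ(Z, U) ⊗[R] Ω))) := isReduced_of_isOpenImmersion e.inv
    have h2 : _root_.IsReduced (Γ(Z, U) ⊗[R] Ω) := (affine_isReduced_iff (CommRingCat.of _)).1 this
    show _root_.IsReduced (Ω ⊗[R] Γ(Z, U))
    exact isReduced_of_injective (Algebra.TensorProduct.comm R Ω Γ(Z, U)).toAlgHom
      (Algebra.TensorProduct.comm R Ω Γ(Z, U)).injective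

end Groth.Agent.H34.Stein.DvrCount

namespace Groth.Agent.H34.Stein.DvrCount

/-- Over a discrete valuation ring, a proper scheme whose closed fibre is geometrically reduced and
lies in the closure of the generic fibre has at most as many geometric components generically as
specially. -/
theorem nGeomConnComp_le {R : Type u} [CommRing R] [IsDomain R] [IsDiscreteValuationRing R]
    {Z : Scheme.{u}} (f : Z ⟶ Spec (CommRingCat.of R)) [IsProper f] (η s : Spec (CommRingCat.of R))
    (hη : η.asIdeal = ⊥) (hs : s.asIdeal = IsLocalRing.maximalIdeal R)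
    (hclos : ∀ z : Z, f z = s → ∃ x : Z, x ⤳ z ∧ f x = η)
    (hred : ∀ (Ω : Type u) [Field Ω] [IsAlgClosed Ω] (ξ : Spec (CommRingCat.of Ω) ⟶ Spec (CommRingCat.of R)),
      H54.GeomLift.pt ξ = s → IsReduced (pullback f ξ)) :
    MoreMor.nGeomConnComp f η ≤ MoreMor.nGeomConnComp f s := by
  have hnoeth : IsLocallyNoetherian (Spec (CommRingCat.of R)) := inferInstance
  let I := Scheme.IdealSheafData.vanishingIdeal (X := Z) ⊤
  have : IsReduced I.subscheme := H75.RedSub.isReduced_vanishingIdeal _
  have : Surjective I.subschemeι := ⟨by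
    intro z
    show z ∈ Set.range I.subschemeι
    rw [Scheme.IdealSheafData.range_subschemeι, Scheme.IdealSheafData.coe_support_vanishingIdeal]
    trivial⟩
  let f' := I.subschemeι ≫ f
  have : CompactSpace I.subscheme := QuasiCompact.compactSpace_of_compactSpace f'
  -- the counts agree
  have hcount : ∀ v, MoreMor.nGeomConnComp f' v = MoreMor.nGeomConnComp f v := by
    intro v
    obtain ⟨t, ht⟩ := geomFiber_iso f v
    obtain ⟨i⟩ := ht f'
    obtain ⟨j⟩ := ht f
    let k : pullback f' t ⟶ pullback f t :=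
      pullback.lift (pullback.fst _ _ ≫ I.subschemeι) (pullback.snd _ _)
        (by rw [Category.assoc, pullback.condition])
    have hsq : IsPullback (pullback.fst f' t) k I.subschemeι (pullback.fst f t) :=
      IsPullback.of_bot (by
        rw [pullback.lift_snd]
        exact IsPullback.of_hasPullback f' t) (pullback.lift_fst _ _ _).symm
        (IsPullback.of_hasPullback f t)
    have : IsClosedImmersion k := MorphismProperty.of_isPullback hsq inferInstance
    have : Surjective k := MorphismProperty.of_isPullback hsq inferInstance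
    obtain ⟨e⟩ := connectedComponents_congr
      ((Lib.UnivHomeo.Basic.isHomeomorph
        (Lib.UnivHomeo.Basic.of_isClosedImmersion_surjective k)).homeomorph)
    obtain ⟨ei⟩ := connectedComponents_congr i.hom.homeomorph
    obtain ⟨ej⟩ := connectedComponents_congr j.hom.homeomorph
    exact ENat.card_congr (ei.trans (e.trans ej.symm))
  rw [← hcount η, ← hcount s, (nGeomConnComp_eq f' η).2, (nGeomConnComp_eq f' s).2]
  have hgen : ∀ z : I.subscheme, ∃ x : I.subscheme, x ⤳ z ∧ (f' x).asIdeal = ⊥ := by
    intro z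
    by_cases hz : (f' z).asIdeal = ⊥
    · exact ⟨z, specializes_rfl, hz⟩
    · have hzs : f (I.subschemeι z) = s := PrimeSpectrum.ext (by
        rw [hs]
        exact IsLocalRing.eq_maximalIdeal (Ideal.IsPrime.isMaximal (f' z).isPrime hz))
      obtain ⟨x, hx, hxη⟩ := hclos _ hzs
      obtain ⟨x', rfl⟩ := I.subschemeι.surjective x
      exact ⟨x', I.subschemeι.isClosedEmbedding.isInducing.specializes_iff.1 hx,
        by rw [show f' x' = η from hxη]; exact hη⟩
  -- the algebra
  letI : Algebra R Γ(I.subscheme, ⊤) := (glob f').hom.toAlgebra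
  haveI : Module.Finite R Γ(I.subscheme, ⊤) := finite_glob f'
  haveI : Module.IsTorsionFree R Γ(I.subscheme, ⊤) := ⟨fun a ha x y e => sub_eq_zero.1
    (eq_zero_of_mul f' hgen ha.ne_zero (x - y) (by
      rw [show homOfLE (le_top (a := (⊤ : I.subscheme.Opens))) = 𝟙 _ from rfl, op_id,
        CategoryTheory.Functor.map_id]
      show glob f' a * (x - y) = 0
      rw [mul_sub, sub_eq_zero]
      exact e))⟩
  haveI : Module.Free R Γ(I.subscheme, ⊤) := Module.free_of_finite_type_torsion_free'
  let Ω := AlgebraicClosure (IsLocalRing.ResidueField R)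
  let Ω' := AlgebraicClosure (FractionRing R)
  letI : Algebra R Ω := ((algebraMap (IsLocalRing.ResidueField R) Ω).comp (IsLocalRing.residue R)).toAlgebra
  letI : Algebra R Ω' := ((algebraMap (FractionRing R) Ω').comp (algebraMap R (FractionRing R))).toAlgebra
  let ξ := Spec.map (CommRingCat.ofHom (algebraMap R Ω))
  let ξ' := Spec.map (CommRingCat.ofHom (algebraMap R Ω'))
  have hξ : H54.GeomLift.pt ξ = s := PrimeSpectrum.ext (by
    rw [hs]
    show (IsLocalRing.maximalIdeal Ω).comap ((algebraMap (IsLocalRing.ResidueField R) Ω).comp (IsLocalRing.residue R)) = _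
    rw [IsLocalRing.maximalIdeal_eq_bot, ← RingHom.ker_eq_comap_bot,
      RingHom.ker_comp_of_injective _ (algebraMap (IsLocalRing.ResidueField R) Ω).injective, IsLocalRing.ker_residue])
  have hξ' : H54.GeomLift.pt ξ' = η := PrimeSpectrum.ext (by
    rw [hη]
    show (IsLocalRing.maximalIdeal Ω').comap ((algebraMap (FractionRing R) Ω').comp (algebraMap R (FractionRing R))) = _
    rw [IsLocalRing.maximalIdeal_eq_bot, ← RingHom.ker_eq_comap_bot,
      RingHom.ker_comp_of_injective _ (algebraMap (FractionRing R) Ω').injective,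
      (RingHom.injective_iff_ker_eq_bot _).1 (IsFractionRing.injective R (FractionRing R))])
  have hred' : IsReduced (pullback f' ξ) := by
    have := hred Ω ξ hξ
    let k : pullback f' ξ ⟶ pullback f ξ :=
      pullback.lift (pullback.fst _ _ ≫ I.subschemeι) (pullback.snd _ _)
        (by rw [Category.assoc, pullback.condition])
    have hsq : IsPullback (pullback.fst f' ξ) k I.subschemeι (pullback.fst f ξ) :=
      IsPullback.of_bot (by
        rw [pullback.lift_snd]
        exact IsPullback.of_hasPullback f' ξ) (pullback.lift_fst _ _ _).symm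
        (IsPullback.of_hasPullback f ξ)
    have : IsClosedImmersion k := MorphismProperty.of_isPullback hsq inferInstance
    have : Surjective k := MorphismProperty.of_isPullback hsq inferInstance
    have : IsIso k := isIso_of_isClosedImmersion_of_surjective k
    exact isReduced_of_isOpenImmersion k
  haveI := isReduced_baseChange f' hgen Ω hred'
  have := isFinite_fromNormalization f'
  obtain ⟨e⟩ := card_lift_eq f' Ω
  obtain ⟨e'⟩ := card_lift_eq f' Ω'
  rw [← hξ, ← hξ', GeomPts.nGeomConnComp_eq_card_lift, GeomPts.nGeomConnComp_eq_card_lift,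
    ← ENat.card_congr e, ← ENat.card_congr e']
  haveI := DvrAlg.finite_algHom R Γ(I.subscheme, ⊤) Ω
  haveI := DvrAlg.finite_algHom R Γ(I.subscheme, ⊤) Ω'
  rw [ENat.card_eq_coe_natCard, ENat.card_eq_coe_natCard, Nat.cast_le]
  exact DvrAlg.card_algHom_le R Γ(I.subscheme, ⊤) Ω Ω'

end Groth.Agent.H34.Stein.DvrCount
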