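import Groth.Agent.H34.Stein.Connected
import Groth.Agent.Lib.Stein36.Unibranch
import Groth.Agent.Lib.UnivHomeo.Basic
import Groth.Prelude.Def_MoreMor

/-!
# Fibres of the Stein factorization
-/

set_option autoImplicit false
universe u

open CategoryTheory CategoryTheory.Limits AlgebraicGeometry TopologicalSpace

namespace Groth.Agent.H34.Stein

/-- A closed map of schemes with connected nonempty fibres identifies connected components. -/
theorem connectedComponents_equiv {P Q : Scheme.{u}} (h : P ⟶ Q) [UniversallyClosed h]
    [GeometricallyConnected h] :
    Nonempty (ConnectedComponents ↥P ≃ ConnectedComponents ↥Q) :=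
  ⟨((h.isClosedMap.isQuotientMap h.continuous h.surjective).isCoinducing.connectedComponentsHomeomorph
    h.isConnected_preimage_singleton).toEquiv⟩

/-- A homeomorphism identifies connected components. -/
theorem connectedComponents_congr {A B : Type u} [TopologicalSpace A] [TopologicalSpace B]
    (e : A ≃ₜ B) : Nonempty (ConnectedComponents A ≃ ConnectedComponents B) :=
  ⟨(e.isQuotientMap.isCoinducing.connectedComponentsHomeomorph fun y => by
    rw [← e.image_symm, Set.image_singleton]; exact isConnected_singleton).toEquiv⟩

/-- A Noetherian space has finitely many connected components. -/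
theorem finite_connectedComponents (T : Type u) [TopologicalSpace T] [NoetherianSpace T] :
    Finite (ConnectedComponents T) := by
  have := (NoetherianSpace.finite_irreducibleComponents (α := T)).to_subtype
  refine Finite.of_surjective (fun Z : irreducibleComponents T =>
    ConnectedComponents.mk (Z.2.1.nonempty.some)) fun c => ?_
  obtain ⟨x, rfl⟩ := ConnectedComponents.surjective_coe c
  refine ⟨⟨_, irreducibleComponent_mem_irreducibleComponents x⟩, ?_⟩
  refine ConnectedComponents.coe_eq_coe'.2
    ((isIrreducible_irreducibleComponent (x := x)).isConnected.isPreconnected.subset_connectedComponent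
      mem_irreducibleComponent ?_)
  exact Set.Nonempty.some_mem _

/-- A scheme proper over a field has finitely many connected components. -/
theorem finite_connectedComponents_of_proper {P : Scheme.{u}} {K : Type u} [Field K]
    (h : P ⟶ Spec (CommRingCat.of K)) [IsProper h] : Finite (ConnectedComponents ↥P) := by
  have : IsLocallyNoetherian P := LocallyOfFiniteType.isLocallyNoetherian h
  have : CompactSpace P := QuasiCompact.compactSpace_of_compactSpace h
  have : IsNoetherian P := ⟨⟩
  exact finite_connectedComponents P

/-- Connected components of `X ×_S T` and of `N ×_S T` for `X → N` proper and geometrically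
connected. -/
theorem connectedComponents_pullback_equiv {X N S T : Scheme.{u}} (b : X ⟶ N) [UniversallyClosed b]
    [GeometricallyConnected b] (m : N ⟶ S) (a : X ⟶ S) (hab : b ≫ m = a) (t : T ⟶ S) :
    Nonempty (ConnectedComponents ↥(pullback a t) ≃ ConnectedComponents ↥(pullback m t)) := by
  obtain ⟨e⟩ := connectedComponents_equiv (pullback.snd b (pullback.fst m t))
  let i : pullback b (pullback.fst m t) ≅ pullback a t :=
    pullbackRightPullbackFstIso m t b ≪≫ pullback.congrHom hab rfl
  obtain ⟨ei⟩ := connectedComponents_congr i.hom.homeomorph
  exact ⟨ei.symm.trans e⟩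

/-- An integral morphism under a geometrically connected one is a universal homeomorphism. -/
theorem isUnivHomeo_of_geometricallyConnected {X N T : Scheme.{u}} (a : X ⟶ T)
    [GeometricallyConnected a] (b : X ⟶ N) [Surjective b] (m : N ⟶ T) [IsIntegralHom m]
    (hab : b ≫ m = a) : FlatMor.IsUnivHomeo m := by
  have : Surjective (b ≫ m) := hab ▸ inferInstance
  have : Surjective m := Surjective.of_comp b m
  refine (Lib.UnivHomeo.Basic.iff_integral_universallyInjective_surjective m).2
    ⟨inferInstance, ?_, inferInstance⟩
  rw [UniversallyInjective.iff_diagonal]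
  have hinj : Function.Injective (pullback.snd m m).base := by
    intro z z' hz
    let n := (pullback.snd m m).base z
    let x := N.fromSpecResidueField n ≫ m
    have hc : ConnectedSpace ↥(pullback a x) :=
      GeometricallyConnected.geometrically_connectedSpace x _ _ (.of_hasPullback _ _)
    let i : pullback b (pullback.fst m x) ≅ pullback a x :=
      pullbackRightPullbackFstIso m x b ≪≫ pullback.congrHom hab rfl
    have : ConnectedSpace ↥(pullback b (pullback.fst m x)) :=
      i.hom.homeomorph.connectedSpace_iff.2 hc
    have : ConnectedSpace ↥(pullback m x) :=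
      (pullback.snd b (pullback.fst m x)).surjective.connectedSpace
        (pullback.snd b (pullback.fst m x)).continuous
    have : IsIntegralHom (pullback.snd m x) := inferInstance
    have hs : Subsingleton ↥(pullback m x) :=
      Lib.Stein36.Unibranch.subsingleton_of_isIntegralHom (Ω := N.residueField n) (pullback.snd m x)
    have hs' : Subsingleton ↥((pullback.snd m m).fiber n) :=
      (pullbackLeftPullbackSndIso m m (N.fromSpecResidueField n)).hom.homeomorph.injective.subsingleton
    exact congrArg Subtype.val (((pullback.snd m m).fiberHomeo n).symm.injective.subsingleton.elim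
      (⟨z, rfl⟩ : (pullback.snd m m).base ⁻¹' {n}) ⟨z', hz.symm⟩)
  refine ⟨fun z => ⟨(pullback.snd m m).base z, hinj ?_⟩⟩
  rw [← Scheme.Hom.comp_apply, pullback.diagonal_snd]
  rfl

/-- The geometric fibre as a single pullback. -/
theorem geomFiber_iso {X Y : Scheme.{u}} (f : X ⟶ Y) (y : Y) :
    ∃ t : Spec (CommRingCat.of (SeparableClosure (Y.residueField y))) ⟶ Y,
      ∀ {Z : Scheme.{u}} (g : Z ⟶ Y), Nonempty (MoreMor.geomFiber g y ≅ pullback g t) :=
  ⟨Spec.map (CommRingCat.ofHom (algebraMap (Y.residueField y) (SeparableClosure (Y.residueField y)))) ≫
    Y.fromSpecResidueField y, fun g => ⟨pullbackLeftPullbackSndIso g _ _⟩⟩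

/-- The geometric number of connected components of a proper morphism and of its Stein factor. -/
theorem nGeomConnComp_eq {X S : Scheme.{u}} (f : X ⟶ S) [IsProper f] (s : S) :
    MoreMor.nGeomConnComp f s < ⊤ ∧
      MoreMor.nGeomConnComp f s = MoreMor.nGeomConnComp f.fromNormalization s := by
  have := isProper_toNormalization f
  have := geometricallyConnected_toNormalization f
  obtain ⟨t, ht⟩ := geomFiber_iso f s
  obtain ⟨i⟩ := ht f
  obtain ⟨j⟩ := ht f.fromNormalization
  obtain ⟨e⟩ := connectedComponents_pullback_equiv f.toNormalization f.fromNormalization f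
    f.toNormalization_fromNormalization t
  obtain ⟨ei⟩ := connectedComponents_congr i.hom.homeomorph
  obtain ⟨ej⟩ := connectedComponents_congr j.hom.homeomorph
  constructor
  · have : Finite (ConnectedComponents ↥(pullback f t)) :=
      finite_connectedComponents_of_proper (pullback.snd f t)
    unfold MoreMor.nGeomConnComp
    rw [ENat.card_congr ei]
    exact ENat.card_lt_top.2 inferInstance
  · exact ENat.card_congr (ei.trans (e.trans ej.symm))

end Groth.Agent.H34.Stein
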