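import Groth.Agent.H2.Rigid.SubDiagram
import Groth.Agent.H2.FlatDescend.Model
import Groth.Agent.Lib.Lim.FPDescend
import Groth.Agent.Lib.Lim.Valuative

/-!
# Noetherian models of proper flat morphisms over affine bases
-/

set_option autoImplicit false
universe u

open CategoryTheory CategoryTheory.Limits AlgebraicGeometry
open Groth.Agent.Lib.Lim Groth.Agent.Lib.Lim.Basic

namespace Groth.Agent.H34.Stein

/-- Over a limit of affine schemes, proper flat morphisms of finite presentation come from a stage. -/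
theorem exists_flat_model_of_limit {I : Type u} [SmallCategory I] [IsCofiltered I]
    [∀ i j : I, Subsingleton (i ⟶ j)] (D : I ⥤ Scheme.{u}) (c : Cone D) (hc : IsLimit c)
    [∀ i, IsAffine (D.obj i)] [IsAffine c.pt] {X : Scheme.{u}} (f : X ⟶ c.pt)
    [IsProper f] [Flat f] [LocallyOfFinitePresentation f] :
    ∃ (k : I) (X₀ : Scheme.{u}) (f₀ : X₀ ⟶ D.obj k) (q : X ⟶ X₀),
      IsPullback q f f₀ (c.π.app k) ∧ IsProper f₀ ∧ Flat f₀ ∧ LocallyOfFinitePresentation f₀ := by
  haveI : ∀ {i j : I} (g : i ⟶ j), IsAffineHom (D.map g) := fun g => isAffineHom_of_isAffine _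
  have hD : ∀ (i j : I) (g : i ⟶ j), IsAffineHom (D.map g) := fun _ _ g => inferInstance
  have : CompactSpace X := (quasiCompact_iff_compactSpace f).mp inferInstance
  have : QuasiSeparatedSpace X := quasiSeparatedSpace_of_quasiSeparated f
  obtain ⟨i, Xi, fi, qi, hXc, hXq, hfi, hi⟩ := FPDescend.exists_descent hc f
  obtain ⟨k₁, φ₁, h₁⟩ := Groth.Agent.H2.FlatDescend.flatFp_descends D c hc hD i inferInstance
    inferInstance fi hXc hXq hfi f qi hi ⟨inferInstance, inferInstance⟩
  obtain ⟨k₂, φ₂, h₂⟩ := Valuative.isProper_descends D c hc hD i inferInstance inferInstance fi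
    hXc hXq inferInstance f qi hi inferInstance
  obtain ⟨k, α₁, α₂, -⟩ := IsCofilteredOrEmpty.cone_objs k₁ k₂
  let φ : k ⟶ i := α₁ ≫ φ₁
  let gk := pullback.snd fi (D.map φ)
  have hk : IsPullback (pullback.lift qi (f ≫ c.π.app k) (by rw [Category.assoc, c.w, hi.w])) f gk
      (c.π.app k) := FPDescend.move hi φ
  have hflat : Groth.Agent.H2.FlatDescend.flatFp gk :=
    Descend.prop_of_factor (P := Groth.Agent.H2.FlatDescend.flatFp) h₁ (D.map α₁)
      (by rw [← D.map_comp]) (IsPullback.of_hasPullback _ _)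
  have : IsProper gk :=
    Descend.prop_of_factor (P := @IsProper) h₂ (D.map α₂) (by
      rw [← D.map_comp, Subsingleton.elim (α₂ ≫ φ₂) φ]) (IsPullback.of_hasPullback _ _)
  exact ⟨k, _, gk, _, hk, this, hflat.1, hflat.2⟩

/-- A proper flat morphism of finite presentation over an affine scheme is the base change of one over
a Noetherian affine scheme. -/
theorem exists_flat_noetherian_model {B : CommRingCat.{u}} {X : Scheme.{u}} (f : X ⟶ Spec B)
    [IsProper f] [Flat f] [LocallyOfFinitePresentation f] :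
    ∃ (S₀ X₀ : Scheme.{u}) (f₀ : X₀ ⟶ S₀) (q : X ⟶ X₀) (π : Spec B ⟶ S₀),
      IsAffine S₀ ∧ IsLocallyNoetherian S₀ ∧ IsPullback q f f₀ π ∧ IsProper f₀ ∧ Flat f₀ ∧
        LocallyOfFinitePresentation f₀ := by
  haveI : IsAffine (H2.Rigid.SubDiagram.cone B).pt := inferInstanceAs (IsAffine (Spec B))
  obtain ⟨k, X₀, f₀, q, h, h1, h2, h3⟩ := @exists_flat_model_of_limit _ _ _ _
    (H2.Rigid.SubDiagram.diagram B) (H2.Rigid.SubDiagram.cone B) (H2.Rigid.SubDiagram.isLimitCone B) _ _
    X f ‹IsProper f› ‹Flat f› ‹LocallyOfFinitePresentation f›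
  exact ⟨_, X₀, f₀, q, _, inferInstance, inferInstance, h, h1, h2, h3⟩

end Groth.Agent.H34.Stein
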