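import Groth.Agent.H34.Stein.EtaleFactor
import Groth.Agent.H34.Stein.FlatModel
import Groth.Agent.H34.Stein.Finite
import Mathlib.AlgebraicGeometry.Morphisms.FlatMono

/-!
# Stein factorization of proper flat morphisms with geometrically reduced fibres
-/

set_option autoImplicit false
universe u

open CategoryTheory CategoryTheory.Limits AlgebraicGeometry TopologicalSpace Opposite
open Groth.Agent.H2.Rigid

namespace Groth.Agent.H34.Stein

/-- `b_* O = O` for the map to the Stein factor. -/
theorem push_toNormalization {X S : Scheme.{u}} (f : X ⟶ S) [IsProper f] : Push f.toNormalization :=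
  fun U => (ConcreteCategory.isIso_iff_bijective _).mp (Groth.Agent.S1340.result f U)

/-- The map to an étale Stein factor is flat of finite presentation with geometrically reduced fibres. -/
theorem toNormalization_props {X S : Scheme.{u}} (f : X ⟶ S) [IsProper f] [Flat f]
    [LocallyOfFinitePresentation f] [GeometricallyReduced f] [Etale f.fromNormalization] :
    Flat f.toNormalization ∧ LocallyOfFinitePresentation f.toNormalization ∧
      GeometricallyReduced f.toNormalization := by
  let σ : X ⟶ pullback f f.fromNormalization :=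
    pullback.lift (𝟙 X) f.toNormalization (by simp)
  have hσ : σ ≫ pullback.fst f f.fromNormalization = 𝟙 X := pullback.lift_fst _ _ _
  have he : Etale (pullback.fst f f.fromNormalization) := inferInstance
  have : Etale σ := MorphismProperty.of_postcomp @Etale (W' := @Etale) σ _ he (by rw [hσ]; infer_instance)
  have : Mono (σ ≫ pullback.fst f f.fromNormalization) := by rw [hσ]; infer_instance
  have : Mono σ := mono_of_mono σ (pullback.fst f f.fromNormalization)
  have : IsOpenImmersion σ := IsOpenImmersion.of_flat_of_mono σ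
  have hb : σ ≫ pullback.snd f f.fromNormalization = f.toNormalization := pullback.lift_snd _ _ _
  refine ⟨?_, ?_, ?_⟩ <;> rw [← hb]
  · infer_instance
  · infer_instance
  · exact geometricallyReduced_comp σ _

/-- Universal `b_* O = O`. -/
theorem push_baseChange_toNormalization {X S : Scheme.{u}} (f : X ⟶ S) [IsProper f] [Flat f]
    [LocallyOfFinitePresentation f] [GeometricallyReduced f] [Etale f.fromNormalization]
    {N' : Scheme.{u}} (h : N' ⟶ f.normalization) : Push (pullback.snd f.toNormalization h) := by
  obtain ⟨h1, h2, h3⟩ := toNormalization_props f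
  haveI := isProper_toNormalization f
  haveI := geometricallyConnected_toNormalization f
  exact push_of_geometrically _

/-- The Noetherian case. -/
theorem etale_fromNormalization_noetherian {X S : Scheme.{u}} [IsLocallyNoetherian S] (f : X ⟶ S)
    [IsProper f] [Flat f] [LocallyOfFinitePresentation f] [GeometricallyReduced f] :
    Etale f.fromNormalization :=
  haveI := isFinite_fromNormalization f
  haveI := geometricallyConnected_toNormalization f
  etale_of_push f f.toNormalization f.fromNormalization f.toNormalization_fromNormalization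
    (push_toNormalization f)

/-- A Noetherian model with geometrically reduced fibres near a point of the base. -/
theorem exists_reduced_model {X S : Scheme.{u}} (f : X ⟶ S) [IsProper f] [Flat f]
    [LocallyOfFinitePresentation f] [GeometricallyReduced f] (y : S) :
    ∃ (U : S.Opens) (_ : y ∈ U) (S₁ X₁ : Scheme.{u}) (f₁ : X₁ ⟶ S₁) (g : U.toScheme ⟶ S₁)
      (q : (f ⁻¹ᵁ U).toScheme ⟶ X₁),
      IsLocallyNoetherian S₁ ∧ IsProper f₁ ∧ Flat f₁ ∧ LocallyOfFinitePresentation f₁ ∧
      GeometricallyReduced f₁ ∧ IsPullback q (f ∣_ U) f₁ g := by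
  obtain ⟨U, hyU, S₀, X₀, f₀, g, q, hS, hp, hf, hl, hpb, -⟩ := exists_local_model f y
  let R : S₀.Opens := ⟨_, isOpen_geometricallyReduced f₀⟩
  have hR : Set.range g.base ⊆ (R : Set S₀) := by
    rintro _ ⟨z, rfl⟩
    exact (geometricallyReduced_fibre_iff f₀ (f ∣_ U) q g hpb z).1 inferInstance
  let g₁ : U.toScheme ⟶ R := IsOpenImmersion.lift R.ι g (by rwa [Scheme.Opens.range_ι])
  have hg₁ : g₁ ≫ R.ι = g := IsOpenImmersion.lift_fac _ _ _
  have hsq := isPullback_morphismRestrict f₀ R
  let q₁ : (f ⁻¹ᵁ U).toScheme ⟶ (f₀ ⁻¹ᵁ R).toScheme :=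
    hsq.lift ((f ∣_ U) ≫ g₁) q (by rw [Category.assoc, hg₁, hpb.w])
  have h1 : q₁ ≫ (f₀ ⁻¹ᵁ R).ι = q := hsq.lift_snd _ _ _
  have h2 : q₁ ≫ (f₀ ∣_ R) = (f ∣_ U) ≫ g₁ := hsq.lift_fst _ _ _
  have hred : GeometricallyReduced (f₀ ∣_ R) := by
    rw [GeometricallyReduced.eq_geometrically, geometrically_iff_forall_fiberToSpecResidueField,
      ← GeometricallyReduced.eq_geometrically]
    intro z
    exact (geometricallyReduced_fibre_iff f₀ (f₀ ∣_ R) _ R.ι hsq.flip z).2 z.2
  refine ⟨U, hyU, R.toScheme, _, f₀ ∣_ R, g₁, q₁, inferInstance, MorphismProperty.of_isPullback hsq.flip inferInstance,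
    MorphismProperty.of_isPullback hsq.flip inferInstance,
    MorphismProperty.of_isPullback hsq.flip inferInstance, hred, ?_⟩
  exact IsPullback.of_right (by rw [h1, hg₁]; exact hpb) h2 hsq.flip

/-- The Stein factor is finite étale. -/
theorem finite_etale_fromNormalization {X S : Scheme.{u}} (f : X ⟶ S) [IsProper f] [Flat f]
    [LocallyOfFinitePresentation f] [GeometricallyReduced f] :
    IsFinite f.fromNormalization ∧ Etale f.fromNormalization := by
  suffices h : ∀ y : S, ∃ U : S.Opens, y ∈ U ∧ IsFinite (f.fromNormalization ∣_ U) ∧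
      Etale (f.fromNormalization ∣_ U) by
    choose U hU h1 h2 using h
    have hcov : iSup U = ⊤ := eq_top_iff.2 fun y _ => Opens.mem_iSup.2 ⟨y, hU y⟩
    exact ⟨IsZariskiLocalAtTarget.of_iSup_eq_top (P := @IsFinite) U hcov h1,
      IsZariskiLocalAtTarget.of_iSup_eq_top (P := @Etale) U hcov h2⟩
  intro y
  obtain ⟨U, hyU, S₁, X₁, f₁, g, q, _, _, _, _, _, hpb⟩ := exists_reduced_model f y
  refine ⟨U, hyU, ?_⟩
  haveI := etale_fromNormalization_noetherian f₁
  haveI := isFinite_fromNormalization f₁
  haveI : IsProper (f ∣_ U) := MorphismProperty.of_isPullback hpb inferInstance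
  let m₁ := pullback.snd f₁.fromNormalization g
  let b₁ : (f ⁻¹ᵁ U).toScheme ⟶ pullback f₁.fromNormalization g :=
    pullback.lift (q ≫ f₁.toNormalization) (f ∣_ U) (by simp [hpb.w])
  have hb₁ : IsPullback q b₁ f₁.toNormalization (pullback.fst f₁.fromNormalization g) := by
    refine IsPullback.of_bot ?_ (pullback.lift_fst _ _ _).symm
      (IsPullback.of_hasPullback f₁.fromNormalization g)
    rw [pullback.lift_snd, f₁.toNormalization_fromNormalization]
    exact hpb
  have hp₁ : Push b₁ := by
    intro V
    rw [← hb₁.isoPullback_hom_snd, Scheme.Hom.comp_app]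
    exact (ConcreteCategory.bijective_of_isIso (hb₁.isoPullback.hom.app _)).comp
      (push_baseChange_toNormalization f₁ _ V)
  have H₁ : f ∣_ U = b₁ ≫ m₁ := (pullback.lift_snd _ _ _).symm
  let b₂ : (f ⁻¹ᵁ U).toScheme ⟶ (f.fromNormalization ⁻¹ᵁ U).toScheme :=
    X.homOfLE (by rw [← Scheme.Hom.comp_preimage, f.toNormalization_fromNormalization]) ≫
      (f.toNormalization ∣_ (f.fromNormalization ⁻¹ᵁ U))
  have H₂' : f ∣_ U = b₂ ≫ (f.fromNormalization ∣_ U) := by
    rw [← cancel_mono U.ι]; simp [b₂]
  have hp₂ : Push b₂ := by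
    intro V
    rw [Scheme.Hom.comp_app]
    have e : f ⁻¹ᵁ U = f.toNormalization ⁻¹ᵁ (f.fromNormalization ⁻¹ᵁ U) := by
      rw [← Scheme.Hom.comp_preimage, f.toNormalization_fromNormalization]
    haveI : IsIso (X.homOfLE e.le) := by
      rw [← X.isoOfEq_hom e]; infer_instance
    exact (ConcreteCategory.bijective_of_isIso ((X.homOfLE e.le).app _)).comp
      (Push.restrict (push_toNormalization f) _ V)
  haveI := isIso_normalizationDesc (f ∣_ U) b₁ m₁ H₁ hp₁
  haveI := isIso_normalizationDesc (f ∣_ U) b₂ _ H₂' hp₂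
  have e1 : f.fromNormalization ∣_ U = (inv ((f ∣_ U).normalizationDesc b₂ _ H₂') ≫
      (f ∣_ U).normalizationDesc b₁ m₁ H₁) ≫ m₁ := by
    rw [Category.assoc, Scheme.Hom.normalizationDesc_comp, IsIso.eq_inv_comp,
      Scheme.Hom.normalizationDesc_comp]
  rw [e1]
  exact ⟨(MorphismProperty.cancel_left_of_respectsIso @IsFinite _ _).2 inferInstance,
    (MorphismProperty.cancel_left_of_respectsIso @Etale _ _).2 inferInstance⟩

/-- The formation of the Stein factor commutes with base change. -/
theorem isIso_normalizationPullback_of_reduced {X S T : Scheme.{u}} (f : X ⟶ S) [IsProper f] [Flat f]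
    [LocallyOfFinitePresentation f] [GeometricallyReduced f] (g : T ⟶ S) :
    IsIso (f.normalizationPullback g) :=
  haveI := (finite_etale_fromNormalization f).2
  isIso_normalizationPullback f g (push_baseChange_toNormalization f _)

/-- Reducedness over algebraically closed fields suffices for geometric reducedness. -/
theorem geometricallyReduced_of_isAlgClosed {X S : Scheme.{u}} (f : X ⟶ S)
    (hred : ∀ (Ω : Type u) [Field Ω] [IsAlgClosed Ω] (σ : Spec (CommRingCat.of Ω) ⟶ S),
      IsReduced (pullback f σ)) : GeometricallyReduced f := by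
  refine ⟨geometrically_iff_of_isClosedUnderIsomorphisms.mpr fun K _ σ => ?_⟩
  let β : Spec (CommRingCat.of (AlgebraicClosure K)) ⟶ Spec (CommRingCat.of K) :=
    Spec.map (CommRingCat.ofHom (algebraMap K (AlgebraicClosure K)))
  haveI : Flat β := (HasRingHomProperty.Spec_iff (P := @Flat)).2
    (RingHom.flat_algebraMap_iff.2 inferInstance)
  haveI := hred (AlgebraicClosure K) (β ≫ σ)
  haveI : IsReduced (pullback (pullback.snd f σ) β) :=
    isReduced_of_isOpenImmersion (pullbackLeftPullbackSndIso f σ β).hom
  let p := pullback.fst (pullback.snd f σ) β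
  haveI : Flat p := inferInstance
  haveI : Surjective β := ⟨fun x => ⟨Classical.arbitrary _, Subsingleton.elim _ _⟩⟩
  haveI : Surjective p := MorphismProperty.pullback_fst _ _ inferInstance
  haveI : ∀ x, _root_.IsReduced ((pullback f σ).presheaf.stalk x) := fun x => by
    obtain ⟨w, rfl⟩ := p.surjective x
    exact isReduced_of_injective (p.stalkMap w).hom (stalkMap_injective_of_flat p w)
  exact isReduced_of_isReduced_stalk _

end Groth.Agent.H34.Stein
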