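import Groth.Agent.H34.Stein.GeomCount
import Groth.Agent.H46.UnivOpen
import Groth.Agent.H46.GeomSpread.Fibre
import Groth.Agent.S4619
import Groth.Prelude.Def_ega3
import Mathlib.FieldTheory.PurelyInseparable.Basic

/-!
# The generic fibre of a dominant morphism of integral schemes, and fibres under universal openness
-/

set_option autoImplicit false
universe u

open CategoryTheory CategoryTheory.Limits AlgebraicGeometry Topology Filter

namespace Groth.Agent.H34.Stein

/-- The residue field map factors the comorphism at the generic point. -/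
theorem specMap_stalkToFunctionField {X Y : Scheme.{u}} [IsIntegral X] (f : X ⟶ Y) (y : Y)
    (h : f.base (genericPoint X) ⤳ y) :
    Spec.map (CommRingCat.ofHom (CohIII.stalkToFunctionField f y h)) ≫ Y.fromSpecStalk y =
      X.fromSpecStalk (genericPoint X) ≫ f := by
  rw [← Scheme.SpecMap_stalkMap_fromSpecStalk]
  show Spec.map (Y.presheaf.stalkSpecializes h ≫ f.stalkMap (genericPoint X)) ≫ _ = _
  rw [Spec.map_comp, Category.assoc, Scheme.SpecMap_stalkSpecializes_fromSpecStalk]

/-- The generic fibre is geometrically connected when the base function field is algebraically closed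
in the source up to purely inseparable extensions. -/
theorem geometricallyConnected_generic {X Y : Scheme.{u}} [IsIntegral X] [IsIntegral Y] (f : X ⟶ Y)
    (hdom : f.base (genericPoint X) ⤳ genericPoint Y)
    (hrad : ∀ x : X.functionField,
      (∃ q : Polynomial Y.functionField, q ≠ 0 ∧
        Polynomial.eval₂ (CohIII.stalkToFunctionField f (genericPoint Y) hdom) x q = 0) →
      ∃ e : ℕ, x ^ (ringExpChar X.functionField ^ e) ∈
        Set.range (CohIII.stalkToFunctionField f (genericPoint Y) hdom)) :
    GeometricallyConnected (f.fiberToSpecResidueField (genericPoint Y)) := by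
  let η := genericPoint Y
  have hfη : f (genericPoint X) = η := hdom.antisymm (genericPoint_specializes _) |>.eq
  let ι := f.fiberι η
  let π := f.fiberToSpecResidueField η
  let x₀ : ↥(f.fiber η) := (f.fiberHomeo η).symm ⟨genericPoint X, hfη⟩
  have hx₀ : ι x₀ = genericPoint X := by
    rw [← f.fiberHomeo_apply]
    exact congrArg Subtype.val ((f.fiberHomeo η).apply_symm_apply ⟨genericPoint X, hfη⟩)
  have : PreirreducibleSpace ↥(f.fiber η) := ⟨by
    have h1 : IsIrreducible (closure ({x₀} : Set ↥(f.fiber η))) := isIrreducible_singleton.closure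
    have h2 : closure ({x₀} : Set ↥(f.fiber η)) = Set.univ := Set.eq_univ_of_forall fun z => by
      rw [← specializes_iff_mem_closure, ← ι.isEmbedding.isInducing.specializes_iff, hx₀]
      exact genericPoint_specializes _
    rw [← h2]; exact h1.isPreirreducible⟩
  have : ConnectedSpace ↥(f.fiber η) := { toNonempty := ⟨x₀⟩ }
  let φ : Y.residueField η ⟶ (f.fiber η).residueField x₀ :=
    Spec.preimage ((f.fiber η).fromSpecResidueField x₀ ≫ π)
  refine Groth.Agent.S4619.result π x₀ ⟨φ.hom, Spec.map_preimage _, ?_⟩
  letI : Algebra (IsLocalRing.ResidueField (Y.presheaf.stalk η)) ((f.fiber η).residueField x₀) :=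
    φ.hom.toAlgebra
  have hr : Function.Bijective (Y.residue η).hom :=
    ⟨(Y.residue η).hom.injective, Y.residue_surjective η⟩
  let σ : X.functionField ⟶ X.presheaf.stalk (ι x₀) :=
    (X.presheaf.stalkCongr (Inseparable.of_eq hx₀.symm)).hom
  let ρ : X.functionField ⟶ (f.fiber η).residueField x₀ :=
    σ ≫ X.residue (ι x₀) ≫ ι.residueFieldMap x₀
  have hρ : Function.Surjective ρ := by
    intro a
    obtain ⟨b, rfl⟩ := (f.fiber η).residue_surjective x₀ a
    obtain ⟨c, rfl⟩ := ι.stalkMap_surjective x₀ b
    obtain ⟨d, rfl⟩ := (ConcreteCategory.bijective_of_isIso σ).2 c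
    exact ⟨d, congr($(Scheme.residue_residueFieldMap ι x₀) (σ d))⟩
  have hcomm : CommRingCat.ofHom (CohIII.stalkToFunctionField f η hdom) ≫ ρ = Y.residue η ≫ φ := by
    apply Spec.map_injective
    rw [← cancel_mono (Y.fromSpecStalk η), Spec.map_comp (Y.residue η) φ, Category.assoc,
      show Spec.map (Y.residue η) ≫ Y.fromSpecStalk η = Y.fromSpecResidueField η from rfl,
      show Spec.map φ = (f.fiber η).fromSpecResidueField x₀ ≫ π from Spec.map_preimage _,
      Category.assoc, Spec.map_comp, Category.assoc, specMap_stalkToFunctionField]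
    simp only [ρ, σ, Spec.map_comp, Category.assoc, TopCat.Presheaf.stalkCongr]
    rw [Scheme.SpecMap_stalkSpecializes_fromSpecStalk_assoc,
      show Spec.map (X.residue (ι x₀)) ≫ X.fromSpecStalk (ι x₀) ≫ f = X.fromSpecResidueField (ι x₀) ≫ f
        from (Category.assoc _ _ _).symm, Scheme.Hom.SpecMap_residueFieldMap_fromSpecResidueField_assoc]
    exact congrArg _ pullback.condition
  refine eq_bot_iff.2 fun a ha => ?_
  rw [mem_separableClosure_iff] at ha
  obtain ⟨b, rfl⟩ := hρ a
  let ψ := CohIII.stalkToFunctionField f η hdom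
  have hinjρ : Function.Injective ρ := ρ.hom.injective
  obtain ⟨e, c, hc⟩ := hrad b (by
    obtain ⟨p, hp, hp'⟩ := ha.isIntegral
    obtain ⟨q, hq⟩ := Polynomial.map_surjective (Y.residue η).hom hr.2 p
    refine ⟨q, fun h0 => hp.ne_zero (by rw [← hq, h0]; exact Polynomial.map_zero _), hinjρ ?_⟩
    rw [map_zero, Polynomial.hom_eval₂]
    show Polynomial.eval₂ (CommRingCat.ofHom ψ ≫ ρ).hom (ρ b) q = 0
    rw [hcomm]
    show Polynomial.eval₂ (φ.hom.comp (Y.residue η).hom) (ρ b) q = 0
    rw [← Polynomial.eval₂_map, hq]
    exact hp')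
  have hmem : (ρ b : (f.fiber η).residueField x₀) ^ (ringExpChar X.functionField ^ e) ∈
      (algebraMap (IsLocalRing.ResidueField (Y.presheaf.stalk η)) ((f.fiber η).residueField x₀)).range := by
    refine ⟨Y.residue η c, ?_⟩
    show (Y.residue η ≫ φ) c = _
    rw [← hcomm]
    exact (congrArg ρ hc).trans (map_pow ρ.hom b _)
  haveI : ExpChar (IsLocalRing.ResidueField (Y.presheaf.stalk η)) (ringExpChar X.functionField) := by
    haveI : ExpChar X.functionField (ringExpChar X.functionField) := inferInstance
    haveI := expChar_of_injective_ringHom (f := ρ.hom) hinjρ (ringExpChar X.functionField)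
    exact (algebraMap (IsLocalRing.ResidueField (Y.presheaf.stalk η)) ((f.fiber η).residueField x₀)).expChar
      (algebraMap (IsLocalRing.ResidueField (Y.presheaf.stalk η)) ((f.fiber η).residueField x₀)).injective
      (ringExpChar X.functionField)
  refine IntermediateField.mem_bot.2 ?_
  have h1 := (minpoly.natSepDegree_eq_one_iff_pow_mem (ringExpChar X.functionField)).2 ⟨e, hmem⟩
  exact minpoly.natDegree_eq_one_iff.1 ((Polynomial.Separable.natSepDegree_eq_natDegree ha).symm.trans h1)

/-- Universal openness in the sense of dominating irreducible components gives connectedness of the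
special fibres from that of the generic fibre. -/
theorem geometricallyConnected_fibre_of_dominating {X Y : Scheme.{u}} [IsIntegral Y]
    [IsLocallyNoetherian Y] (f : X ⟶ Y) [IsProper f] [Surjective f]
    (hopen : ∀ (Y' : Scheme.{u}) (g : Y' ⟶ Y), IrreducibleSpace ↥Y' → IsLocallyNoetherian Y' →
      IsDominant g → ∀ Z ∈ irreducibleComponents ↥(pullback f g), Dense ((pullback.snd f g).base '' Z))
    (hη : GeometricallyConnected (f.fiberToSpecResidueField (genericPoint Y))) (y : Y) :
    GeometricallyConnected (f.fiberToSpecResidueField y) := by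
  by_cases hy : genericPoint Y = y
  · exact hy ▸ hη
  rw [H46.GeomSpread.geometricallyConnected_iff_count] at hη ⊢
  obtain ⟨R, _, _, _, g, hgs, hgη⟩ :=
    H46.DvrScheme.exists_dvr_of_specializes (genericPoint_specializes y) hy
  let p : pullback f g ⟶ Spec (CommRingCat.of R) := pullback.snd f g
  let s : Spec (CommRingCat.of R) := IsLocalRing.closedPoint R
  let ηR : Spec (CommRingCat.of R) := genericPoint (Spec (CommRingCat.of R))
  have hsq := IsPullback.of_hasPullback f g
  rw [← hgη, ← (H46.GeomSpread.counts_baseChange f p _ g hsq ηR).2] at hη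
  rw [← hgs, ← (H46.GeomSpread.counts_baseChange f p _ g hsq s).2]
  have hop : ∀ w, p w = s → EGA43.IsUnivOpenAt p w := by
    intro w hw
    refine H46.UnivOpen.isUnivOpenAt_of_components_dominate p w fun B _ _ _ h hh => ?_
    rw [hw] at hh
    rcases H46.UnivOpen.eq_closed_or_generic R (h (genericPoint (Spec (CommRingCat.of B)))) with h1 | h1
    · -- over the closed fibre everything is open
      obtain ⟨φ, rfl⟩ := Spec.map_surjective h
      have hker : IsLocalRing.maximalIdeal R ≤ RingHom.ker φ.hom := fun a ha => by
        have := congrArg PrimeSpectrum.asIdeal h1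
        rw [genericPoint_eq_bot_of_affine] at this
        have h2 : a ∈ (⊥ : Ideal B).comap φ.hom := by
          rw [show (⊥ : Ideal B).comap φ.hom = IsLocalRing.maximalIdeal R from this]; exact ha
        exact RingHom.mem_ker.2 (Ideal.mem_bot.1 h2)
      let ψ : CommRingCat.of (IsLocalRing.ResidueField R) ⟶ CommRingCat.of B :=
        CommRingCat.ofHom (Ideal.Quotient.lift _ φ.hom fun a ha => RingHom.mem_ker.1 (hker ha))
      let r : CommRingCat.of R ⟶ CommRingCat.of (IsLocalRing.ResidueField R) :=
        CommRingCat.ofHom (IsLocalRing.residue R)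
      have hrψ : φ = r ≫ ψ := CommRingCat.hom_ext (RingHom.ext fun a => rfl)
      let p₀ := pullback.snd p (Spec.map r)
      have : LocallyOfFinitePresentation p₀ :=
        LocallyOfFinitePresentation.iff_locallyOfFiniteType.2 inferInstance
      have : Flat p₀ := inferInstance
      let i : pullback p₀ (Spec.map ψ) ≅ pullback p (Spec.map φ) :=
        pullbackLeftPullbackSndIso p (Spec.map r) (Spec.map ψ) ≪≫
          pullback.congrHom rfl (by rw [hrψ, Spec.map_comp])
      have hi : i.hom ≫ pullback.snd p (Spec.map φ) = pullback.snd p₀ (Spec.map ψ) := by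
        simp [i, p₀, pullback.map]
        erw [pullback.lift_snd]
        simp
      have hO : IsOpenMap (pullback.snd p (Spec.map φ)).base := by
        intro O hO
        have := (pullback.snd p₀ (Spec.map ψ)).isOpenMap _ (hO.preimage i.hom.continuous)
        rwa [← hi, show (i.hom ≫ pullback.snd p (Spec.map φ)).base '' (i.hom.base ⁻¹' O) =
          (pullback.snd p (Spec.map φ)).base '' O by
            rw [Scheme.Hom.comp_base, TopCat.coe_comp, Set.image_comp,
              Set.image_preimage_eq _ (show Function.Surjective i.hom.base from i.hom.homeomorph.surjective)]] at this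
      intro Z hZ
      obtain ⟨z, hz⟩ := QuasiSober.sober hZ.1 (isClosed_of_mem_irreducibleComponents _ hZ)
      rw [← hz.def, H46.UnivOpen.dense_image_iff]
      obtain ⟨z', hz', hz''⟩ := H46.Lift.exists_generization (pullback.snd p (Spec.map φ)) z
        (genericPoint (Spec (CommRingCat.of B))) ((genericPoint_spec _).specializes trivial) fun O hO' =>
        H46.Lift.generizations_of_isOpenAt (H46.OpenAt.isOpenAt_of_isOpenMap hO z) O hO' _
          ((genericPoint_spec _).specializes trivial)
      have : z' ∈ Z := by
        have hmax := hZ.2 (isIrreducible_singleton (x := z')).closure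
          (by rw [← hz.def]; exact closure_minimal (Set.singleton_subset_iff.2 hz'.mem_closure) isClosed_closure)
        exact hmax (subset_closure rfl)
      rw [← hz''.trans rfl, ((hz.specializes this).antisymm hz').eq]
    · -- dominant over `Y`
      have hd : IsDominant (h ≫ g) := ⟨by
        intro t
        have h3 : (h ≫ g) (genericPoint (Spec (CommRingCat.of B))) = genericPoint Y := by
          rw [Scheme.Hom.comp_apply, h1]; exact hgη
        refine closure_mono (s := {genericPoint Y}) (Set.singleton_subset_iff.2
          (show genericPoint Y ∈ Set.range (h ≫ g).base from ⟨_, h3⟩)) ?_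
        exact (genericPoint_specializes t).mem_closure⟩
      intro Z hZ
      let i := pullbackLeftPullbackSndIso f g h
      have hi : i.hom ≫ pullback.snd f (h ≫ g) = pullback.snd p h := by simp [i, p]
      have hZ' : i.hom.base '' Z ∈ irreducibleComponents ↥(pullback f (h ≫ g)) := by
        obtain ⟨Z', hZ'⟩ : ∃ Z', Z' = i.hom.base '' Z := ⟨_, rfl⟩
        rw [← hZ']
        refine ⟨hZ' ▸ hZ.1.image _ i.hom.continuous.continuousOn, fun T hT hle => ?_⟩
        have h1 : IsIrreducible (i.inv.base '' T) := hT.image _ i.inv.continuous.continuousOn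
        have h2 : Z ⊆ i.inv.base '' T := fun z hz => ⟨i.hom z, hle (hZ' ▸ ⟨z, hz, rfl⟩), by
          rw [← Scheme.Hom.comp_apply, i.hom_inv_id]; rfl⟩
        intro t ht
        rw [hZ']
        exact ⟨i.inv t, hZ.2 h1 h2 ⟨t, ht, rfl⟩, by rw [← Scheme.Hom.comp_apply, i.inv_hom_id]; rfl⟩
      have hdense := hopen _ (h ≫ g) inferInstance inferInstance hd _ hZ'
      rwa [← Set.image_comp, ← TopCat.coe_comp, ← Scheme.Hom.comp_base, hi] at hdense
  have hle := eventually_le p s hop
  obtain ⟨O, hO, hOo, hsO⟩ := eventually_nhds_iff.1 hle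
  refine le_antisymm ((hO ηR (((genericPoint_spec _).specializes trivial).mem_open hOo hsO)).trans hη.le)
    (Order.one_le_iff_ne_zero.2 fun h0 => ?_)
  have : Surjective p := inferInstance
  have : Nonempty ↥(p.fiber s) := by
    obtain ⟨x, hx⟩ := p.surjective s
    exact ⟨(p.fiberHomeo s).symm ⟨x, hx⟩⟩
  have : Nonempty ↥(MoreMor.geomFiber p s) := by
    obtain ⟨x⟩ := this
    obtain ⟨w, -⟩ := (pullback.fst (p.fiberToSpecResidueField s) (Spec.map (CommRingCat.ofHom
      (algebraMap ((Spec (CommRingCat.of R)).residueField s)
        (SeparableClosure ((Spec (CommRingCat.of R)).residueField s)))))).surjective x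
    exact ⟨w⟩
  rw [MoreMor.nGeomConnComp, ENat.card_eq_zero_iff_empty] at h0
  exact h0.false (ConnectedComponents.mk (Classical.arbitrary _))

end Groth.Agent.H34.Stein
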