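import Mathlib.FieldTheory.IsAlgClosed.AlgebraicClosure
import Mathlib.FieldTheory.IsAlgClosed.Basic
import Mathlib.FieldTheory.Minpoly.IsIntegrallyClosed
import Mathlib.FieldTheory.SeparableDegree
import Mathlib.RingTheory.Ideal.GoingUp

/-!
# Maximal ideals of integral extensions of a normal local domain
-/

set_option autoImplicit false
universe u

open Polynomial

namespace Groth.Agent.H34.Stein.MaxCount

/-- A monic polynomial all whose roots lie in an ideal is a power of `X` modulo that ideal. -/
theorem map_eq_X_pow {R S : Type u} [CommRing R] [CommRing S] (mk : R →+* S) (s : Multiset R)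
    (h : ∀ r ∈ s, mk r = 0) :
    ((s.map fun r => X - C r).prod).map mk = X ^ s.card := by
  induction s using Multiset.induction_on with
  | empty => simp
  | cons a s ih =>
    rw [Multiset.map_cons, Multiset.prod_cons, Polynomial.map_mul,
      ih fun r hr => h r (Multiset.mem_cons_of_mem hr), Multiset.card_cons, pow_succ']
    simp [h a (Multiset.mem_cons_self a s)]

/-- Over a normal local domain `N` with fraction field `K`, the maximal ideals of an integral
`N`-algebra inside an algebraic extension `L` of `K` inject into the embeddings of `L` into an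
algebraic closure of `K`. -/
theorem exists_injective (N K L C : Type u) [CommRing N] [IsLocalRing N] [IsIntegrallyClosed N] [IsDomain N]
  [Field K] [Field L] [Algebra N K] [IsFractionRing N K] [Algebra K L] [Algebra N L]
  [IsScalarTower N K L] [CommRing C] [Algebra N C] [Algebra.IsIntegral N C] [Algebra C L]
  [IsScalarTower N C L] [FaithfulSMul C L]
    [Algebra.IsAlgebraic K L] [Finite (L →ₐ[K] AlgebraicClosure K)] :
    ∃ F : MaximalSpectrum C → (L →ₐ[K] AlgebraicClosure K), Function.Injective F := by
  classical
  let Ω := AlgebraicClosure K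
  let D := integralClosure N Ω
  have hDinj : Function.Injective (algebraMap N D) := fun a b h => by
    have h' := congrArg Subtype.val h
    simp only [Subalgebra.coe_algebraMap] at h'
    rw [IsScalarTower.algebraMap_apply N K Ω, IsScalarTower.algebraMap_apply N K Ω] at h'
    exact IsFractionRing.injective N K ((algebraMap K Ω).injective h')
  obtain ⟨M, hMmax, hMc⟩ := Ideal.exists_ideal_over_maximal_of_isIntegral (S := D)
    (IsLocalRing.maximalIdeal N) (by rw [(RingHom.injective_iff_ker_eq_bot _).1 hDinj]; exact bot_le)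
  -- the prime attached to an embedding
  have hint : ∀ (σ : L →ₐ[K] Ω) (c : C), IsIntegral N (σ (algebraMap C L c)) := fun σ c =>
    ((Algebra.IsIntegral.isIntegral c).map (IsScalarTower.toAlgHom N C L)).map (σ.restrictScalars N)
  let j : (L →ₐ[K] Ω) → (C →ₐ[N] D) := fun σ =>
    AlgHom.codRestrict ((σ.restrictScalars N).comp (IsScalarTower.toAlgHom N C L)) D (hint σ)
  let θ : (L →ₐ[K] Ω) → Ideal C := fun σ => M.comap (j σ).toRingHom
  have hθ : ∀ σ, (θ σ).IsMaximal := fun σ => by
    have : (θ σ).IsPrime := Ideal.IsPrime.comap _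
    refine Ideal.isMaximal_of_isIntegral_of_isMaximal_comap (R := N) (θ σ) ?_
    rw [show (θ σ).comap (algebraMap N C) = IsLocalRing.maximalIdeal N from by
      rw [← hMc, Ideal.comap_comap]
      exact congrArg (fun φ => M.comap φ) (j σ).comp_algebraMap]
    infer_instance
  suffices hsurj : ∀ Q : MaximalSpectrum C, ∃ σ, θ σ = Q.asIdeal by
    choose F hF using hsurj
    exact ⟨F, fun Q Q' h => MaximalSpectrum.ext (by rw [← hF, ← hF, h])⟩
  intro Q
  by_contra! hQ
  have := Fintype.ofFinite (L →ₐ[K] Ω)
  have hinf : ¬ Finset.univ.inf θ ≤ Q.asIdeal := fun h => by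
    obtain ⟨σ, -, hσ⟩ := (Ideal.IsPrime.inf_le' Q.isMaximal.isPrime).1 h
    exact hQ σ ((hθ σ).eq_of_le Q.isMaximal.ne_top hσ)
  obtain ⟨x, hx, hxQ⟩ := SetLike.not_le_iff_exists.1 hinf
  -- the minimal polynomial of `x`
  let z := algebraMap C L x
  have hz : IsIntegral N z := (Algebra.IsIntegral.isIntegral x).map (IsScalarTower.toAlgHom N C L)
  let p := minpoly N z
  have hp : minpoly K z = p.map (algebraMap N K) := minpoly.isIntegrallyClosed_eq_field_fractions' K hz
  have hpm : p.Monic := minpoly.monic hz
  -- all its roots lie in `M`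
  have hroot : ∀ r ∈ (p.map (algebraMap N Ω)).roots, ∃ d : D, d ∈ M ∧ (d : Ω) = r := by
    intro r hr
    have hr' : r ∈ (minpoly K z).rootSet Ω := by
      rw [Polynomial.mem_rootSet']
      rw [Polynomial.mem_roots'] at hr
      refine ⟨by rw [hp, Polynomial.map_map, ← IsScalarTower.algebraMap_eq]; exact hr.1, ?_⟩
      rw [hp, Polynomial.aeval_def, Polynomial.eval₂_map, ← IsScalarTower.algebraMap_eq,
        ← Polynomial.eval_map]
      exact hr.2
    rw [← Algebra.IsAlgebraic.range_eval_eq_rootSet_minpoly (A := Ω)] at hr'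
    obtain ⟨σ, rfl⟩ := hr'
    exact ⟨j σ x, (Finset.inf_le (Finset.mem_univ σ) : Finset.univ.inf θ ≤ θ σ) hx, rfl⟩
  choose d hd hd' using hroot
  let s : Multiset D := (p.map (algebraMap N Ω)).roots.pmap d fun r hr => hr
  have hs : p.map (algebraMap N D) = (s.map fun r => X - Polynomial.C r).prod := by
    apply Polynomial.map_injective D.val.toRingHom Subtype.val_injective
    rw [Polynomial.map_map, show D.val.toRingHom.comp (algebraMap N D) = algebraMap N Ω from rfl,
      Polynomial.map_multiset_prod, Multiset.map_map,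
      (IsAlgClosed.splits (p.map (algebraMap N Ω))).eq_prod_roots_of_monic (hpm.map _)]
    congr 1
    simp only [s, Multiset.map_pmap]
    have key : ∀ (t : Multiset Ω) (ht : ∀ r ∈ t, r ∈ (p.map (algebraMap N Ω)).roots),
        t.map (fun r => X - Polynomial.C r) =
          t.pmap (fun r hr => Polynomial.map D.val.toRingHom (X - Polynomial.C (d r hr))) ht := by
      intro t
      induction t using Multiset.induction_on with
      | empty => intro _; simp
      | cons r t ih =>
        intro ht
        rw [Multiset.map_cons, Multiset.pmap_cons, ih, Polynomial.map_sub, Polynomial.map_X,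
          Polynomial.map_C]
        exact congrArg (fun v => (X - Polynomial.C v) ::ₘ _) (hd' r _).symm
    exact key _ _
  have hmod : p.map ((Ideal.Quotient.mk M).comp (algebraMap N D)) = X ^ s.card := by
    rw [← Polynomial.map_map, hs]
    refine map_eq_X_pow _ s fun r hr => ?_
    obtain ⟨t, ht, rfl⟩ := Multiset.mem_pmap.1 hr
    exact Ideal.Quotient.eq_zero_iff_mem.2 (hd t ht)
  have hcoef : ∀ i, i ≠ p.natDegree → p.coeff i ∈ IsLocalRing.maximalIdeal N := fun i hi => by
    rw [← hMc, Ideal.mem_comap, ← Ideal.Quotient.eq_zero_iff_mem]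
    show ((Ideal.Quotient.mk M).comp (algebraMap N D)) (p.coeff i) = 0
    rw [← Polynomial.coeff_map, hmod, Polynomial.coeff_X_pow, if_neg]
    intro hi'
    refine hi ?_
    have hdeg : p.natDegree = s.card := by
      have h2 := hpm.natDegree_map ((Ideal.Quotient.mk M).comp (algebraMap N D))
      rw [hmod, Polynomial.natDegree_X_pow] at h2
      exact h2.symm
    rw [hdeg, hi']
  have hQm : IsLocalRing.maximalIdeal N ≤ Q.asIdeal.comap (algebraMap N C) :=
    haveI := Q.isMaximal
    (IsLocalRing.eq_maximalIdeal (Ideal.isMaximal_comap_of_isIntegral_of_isMaximal Q.asIdeal)).ge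
  have hzero : aeval x p = 0 := by
    apply FaithfulSMul.algebraMap_injective C L
    rw [← Polynomial.aeval_algebraMap_apply, map_zero]
    exact minpoly.aeval N z
  refine hxQ (Q.isMaximal.isPrime.mem_of_pow_mem p.natDegree ?_)
  rw [Polynomial.aeval_eq_sum_range, Finset.sum_range_succ, hpm.coeff_natDegree, one_smul] at hzero
  rw [eq_neg_of_add_eq_zero_right hzero]
  refine neg_mem (Ideal.sum_mem _ fun i hi => ?_)
  rw [Algebra.smul_def]
  exact Ideal.mul_mem_right _ _ (hQm (hcoef i (Finset.mem_range.1 hi).ne))

end Groth.Agent.H34.Stein.MaxCount
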