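import Groth.Agent.H34.Stein.Connected
import Groth.Agent.Lib.FEt.NormalCover
import Mathlib.AlgebraicGeometry.FunctionField

/-!
# `f_* O_X = O_S` over a normal base
-/

set_option autoImplicit false
universe u

open CategoryTheory CategoryTheory.Limits AlgebraicGeometry TopologicalSpace Opposite

namespace Groth.Agent.H34.Stein

/-- An integral extension of a normal domain inside its fraction field is trivial. -/
theorem bijective_of_isIntegral {A B K : Type u} [CommRing A] [IsIntegrallyClosed A]
    [CommRing B] [Field K] [Algebra A K] [IsFractionRing A K] (φ : A →+* B) (hφ : φ.IsIntegral)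
    (ψ : B →+* K) (hψ : Function.Injective ψ) (h : ψ.comp φ = algebraMap A K) :
    Function.Bijective φ := by
  refine ⟨fun a b e => IsFractionRing.injective A K ?_, fun z => ?_⟩
  · rw [← h, RingHom.comp_apply, e, RingHom.comp_apply]
  · obtain ⟨p, hp, hp'⟩ := hφ z
    have hz : IsIntegral A (ψ z) := ⟨p, hp, by rw [← h, ← Polynomial.hom_eval₂, hp', map_zero]⟩
    obtain ⟨a, ha⟩ := IsIntegrallyClosed.isIntegral_iff.1 hz
    exact ⟨a, hψ (by rw [← ha, ← h]; rfl)⟩

/-- Bijectivity on affine opens gives it on every open. -/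
theorem isIso_app_of_affine {X S : Scheme.{u}} (f : X ⟶ S) [UniversallyClosed f] [QuasiSeparated f]
    (hb : ∀ U : S.Opens, IsAffineOpen U → Function.Bijective (f.app U)) (U : S.Opens) :
    IsIso (f.app U) := by
  have h1 := Lib.ZMTStein.isIso_fromNormalization f hb
  have h2 := Groth.Agent.S1340.result f (f.fromNormalization ⁻¹ᵁ U)
  have e : IsIso ((f.toNormalization ≫ f.fromNormalization).app U) := by
    rw [Scheme.Hom.comp_app]; exact @IsIso.comp_isIso _ _ _ _ _ _ _ inferInstance h2
  simp only [Scheme.Hom.app_eq_appLE] at e ⊢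
  have key : ∀ (g : X ⟶ S), g = f → IsIso (g.appLE U (g ⁻¹ᵁ U) le_rfl) →
      IsIso (f.appLE U (f ⁻¹ᵁ U) le_rfl) := by rintro g rfl h; exact h
  exact key _ f.toNormalization_fromNormalization e

/-- Criterion for `f_* O_X = O_S` over a normal integral base. -/
theorem bijective_app_of_injective {X S : Scheme.{u}} (f : X ⟶ S) [UniversallyClosed f]
    [IsIntegral S] (hS : Pi1.IsNormalScheme S) {U : S.Opens} (hU : IsAffineOpen U) [Nonempty U]
    (ψ : Γ(X, f ⁻¹ᵁ U) ⟶ S.functionField) (hψ : Function.Injective ψ)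
    (h : f.app U ≫ ψ = S.germToFunctionField U) : Function.Bijective (f.app U) := by
  have := Lib.FEt.NormalCover.isIntegrallyClosed_sections hS (U := U)
  have := functionField_isFractionRing_of_isAffineOpen S U hU
  exact bijective_of_isIntegral (f.app U).hom (Groth.Agent.S1340.isIntegral_app f hU) ψ.hom hψ
    (congrArg CommRingCat.Hom.hom h)

/-- The empty case. -/
theorem bijective_app_of_isEmpty {X S : Scheme.{u}} (f : X ⟶ S) {U : S.Opens} (h : ¬ Nonempty U) :
    Function.Bijective (f.app U) := by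
  have hU : U = ⊥ := Opens.ext (Set.eq_empty_iff_forall_notMem.2 fun x hx => h ⟨⟨x, hx⟩⟩)
  subst hU
  exact ⟨fun a b _ => Subsingleton.elim a b, fun a => ⟨0, Subsingleton.elim (α := Γ(X, ⊥)) _ _⟩⟩

/-- Sections of a reduced scheme are determined on a set containing all generic points. -/
theorem injective_appLE_of_generic {X Z : Scheme.{u}} [IsReduced X] (ι : Z ⟶ X)
    (hι : ∀ C ∈ irreducibleComponents X, ∀ x : X, IsGenericPoint x C → x ∈ Set.range ι)
    (V : X.Opens) (hV : ⊤ ≤ ι ⁻¹ᵁ V) : Function.Injective (ι.appLE V ⊤ hV) := by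
  rw [injective_iff_map_eq_zero]
  intro s hs
  refine (basicOpen_eq_bot_iff s).1 ?_
  by_contra hne
  obtain ⟨x, hx⟩ : ∃ x, x ∈ X.basicOpen s := by
    by_contra! h'
    exact hne (Opens.ext (Set.eq_empty_iff_forall_notMem.2 h'))
  let C := irreducibleComponent x
  have hC : C ∈ irreducibleComponents X := irreducibleComponent_mem_irreducibleComponents x
  obtain ⟨g, hg⟩ := QuasiSober.sober (isIrreducible_irreducibleComponent (x := x))
    isClosed_irreducibleComponent
  obtain ⟨z, rfl⟩ := hι C hC g hg
  have h1 : ι z ∈ X.basicOpen s :=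
    (hg.specializes mem_irreducibleComponent).mem_open (X.basicOpen s).isOpen hx
  have h2 : ι ⁻¹ᵁ X.basicOpen s ⊓ ⊤ = Z.basicOpen (ι.appLE V ⊤ hV s) := by
    rw [Scheme.Hom.appLE, CommRingCat.comp_apply, Scheme.basicOpen_res, Scheme.preimage_basicOpen]
    exact inf_comm _ _
  rw [hs, Scheme.basicOpen_zero] at h2
  exact (h2.le ⟨h1, trivial⟩ : z ∈ (⊥ : Z.Opens))

/-- Version with reduced source and trivial global functions on the generic fibre. -/
theorem isIso_app_of_generic {X S : Scheme.{u}} (f : X ⟶ S) [IsProper f] [IsIntegral S]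
    (hS : Pi1.IsNormalScheme S) [IsReduced X]
    (hgen : ∀ Z ∈ irreducibleComponents ↑X, ∀ x : X, IsGenericPoint x Z → f x = genericPoint ↑S)
    (h0 : Function.Bijective ((f.fiberToSpecResidueField (genericPoint ↑S)).appTop))
    (U : S.Opens) : IsIso (f.app U) := by
  refine isIso_app_of_affine f (fun U hU => ?_) U
  by_cases hne : Nonempty U
  swap
  · exact bijective_app_of_isEmpty f hne
  let η := genericPoint S
  have hηU : η ∈ U := ((genericPoint_spec S).mem_open_set_iff U.isOpen).2 (by simpa using hne)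
  let ι := f.fiberι η
  let π := f.fiberToSpecResidueField η
  let x := S.fromSpecResidueField η
  have hw : ι ≫ f = π ≫ x := pullback.condition
  have hx : ⊤ ≤ x ⁻¹ᵁ U := fun t _ => by
    show x t ∈ U
    rw [Scheme.fromSpecResidueField_apply]; exact hηU
  have hι : ⊤ ≤ ι ⁻¹ᵁ f ⁻¹ᵁ U := fun z _ => by
    show f (ι z) ∈ U
    rw [← Scheme.Hom.comp_apply, hw, Scheme.Hom.comp_apply]
    exact hx trivial
  have : IsIso π.appTop := (ConcreteCategory.isIso_iff_bijective _).2 h0
  have : IsIso (S.residue η) := (ConcreteCategory.isIso_iff_bijective _).2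
    ⟨(S.residue η).hom.injective, S.residue_surjective η⟩
  refine bijective_app_of_injective f hS hU
    (ι.appLE (f ⁻¹ᵁ U) ⊤ hι ≫ inv π.appTop ≫ (Scheme.ΓSpecIso (S.residueField η)).hom ≫
      inv (S.residue η)) ?_ ?_
  · simp only [CommRingCat.hom_comp, RingHom.coe_comp]
    refine (Function.Injective.comp ?_ (injective_appLE_of_generic ι ?_ _ hι))
    · exact ((ConcreteCategory.bijective_of_isIso _).1.comp (ConcreteCategory.bijective_of_isIso _).1).comp
        (ConcreteCategory.bijective_of_isIso _).1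
    · intro C hC g hg
      rw [Scheme.Hom.range_fiberι]
      exact hgen C hC g hg
  · have h1 : f.app U ≫ ι.appLE (f ⁻¹ᵁ U) ⊤ hι = x.appLE U ⊤ hx ≫ π.appTop := by
      rw [← Scheme.Hom.comp_appLE, show π.appTop = π.appLE ⊤ ⊤ le_rfl from π.app_eq_appLE,
        Scheme.Hom.appLE_comp_appLE]
      congr 1
    have h2 : x.appLE U ⊤ hx = S.presheaf.germ U η hηU ≫ S.residue η ≫
        (Scheme.ΓSpecIso (S.residueField η)).inv := by
      show Scheme.Hom.appLE (Spec.map (S.residue η) ≫ S.fromSpecStalk η) U ⊤ _ = _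
      rw [Scheme.Hom.comp_appLE, Scheme.fromSpecStalk_app hηU, Scheme.ΓSpecIso_inv_naturality]
      simp only [Category.assoc, Scheme.Hom.map_appLE, Scheme.Hom.app_eq_appLE]
      rfl
    rw [reassoc_of% h1, IsIso.hom_inv_id_assoc, h2]
    simp only [Category.assoc, Iso.inv_hom_id_assoc, IsIso.hom_inv_id, Category.comp_id]
    rfl

/-- Version for birational morphisms of integral schemes. -/
theorem isIso_app_of_birational {X S : Scheme.{u}} (f : X ⟶ S) [IsProper f] [IsIntegral X]
    [IsIntegral S] (hS : Pi1.IsNormalScheme S) (hgen : f (genericPoint X) = genericPoint S)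
    (hbir : IsIso (f.stalkMap (genericPoint X))) (U : S.Opens) : IsIso (f.app U) := by
  refine isIso_app_of_affine f (fun U hU => ?_) U
  by_cases hne : Nonempty U
  swap
  · exact bijective_app_of_isEmpty f hne
  have hηU : genericPoint S ∈ U := ((genericPoint_spec S).mem_open_set_iff U.isOpen).2 (by simpa using hne)
  have hξU : f (genericPoint X) ∈ U := hgen ▸ hηU
  have : Nonempty (f ⁻¹ᵁ U) := ⟨⟨genericPoint X, hξU⟩⟩
  refine bijective_app_of_injective f hS hU
    (X.presheaf.germ (f ⁻¹ᵁ U) (genericPoint X) hξU ≫ inv (f.stalkMap (genericPoint X)) ≫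
      (S.presheaf.stalkCongr (Inseparable.of_eq hgen)).hom) ?_ ?_
  · simp only [CommRingCat.hom_comp, RingHom.coe_comp]
    exact ((ConcreteCategory.bijective_of_isIso _).1.comp (ConcreteCategory.bijective_of_isIso _).1).comp
      (germ_injective_of_isIntegral _ _ _)
  · rw [← Scheme.Hom.germ_stalkMap_assoc, IsIso.hom_inv_id_assoc]
    simp [TopCat.Presheaf.stalkCongr]

end Groth.Agent.H34.Stein
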