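import Groth.Agent.H34.Stein.NormalBase
import Groth.Agent.H34.Stein.Finite
import Groth.Prelude.Def_ega3

/-!
# `f_* O_X = O_Y` near a normal point when the function field is algebraically closed
-/

set_option autoImplicit false
universe u

open CategoryTheory CategoryTheory.Limits AlgebraicGeometry TopologicalSpace Opposite

namespace Groth.Agent.H34.Stein

/-- The comorphism at the generic point commutes with germs. -/
theorem germ_app_generic {X Y : Scheme.{u}} [IsIntegral X] [IsIntegral Y] (f : X ⟶ Y)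
    (hdom : f.base (genericPoint X) ⤳ genericPoint Y) (U : Y.Opens) (hY : genericPoint Y ∈ U)
    (hX : genericPoint X ∈ f ⁻¹ᵁ U) (a : Γ(Y, U)) :
    X.presheaf.germ (f ⁻¹ᵁ U) (genericPoint X) hX (f.app U a) =
      CohIII.stalkToFunctionField f (genericPoint Y) hdom (Y.presheaf.germ U (genericPoint Y) hY a) := by
  rw [← CommRingCat.comp_apply, ← Scheme.Hom.germ_stalkMap f U (genericPoint X) hX]
  show _ = (f.stalkMap (genericPoint X)).hom
    ((Y.presheaf.stalkSpecializes hdom).hom (Y.presheaf.germ U (genericPoint Y) hY a))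
  rw [← CommRingCat.comp_apply (Y.presheaf.germ U (genericPoint Y) hY), TopCat.Presheaf.germ_stalkSpecializes]
  rfl

/-- Global functions over an affine neighbourhood of a normal point become functions of the base after
inverting a function not vanishing at the point. -/
theorem exists_isIso_app_basicOpen {X Y : Scheme.{u}} [IsIntegral X] [IsIntegral Y]
    [IsLocallyNoetherian Y] (f : X ⟶ Y) [IsProper f]
    (hdom : f.base (genericPoint X) ⤳ genericPoint Y)
    (halg : ∀ x : X.functionField,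
      (∃ q : Polynomial Y.functionField, q ≠ 0 ∧
        Polynomial.eval₂ (CohIII.stalkToFunctionField f (genericPoint Y) hdom) x q = 0) →
      x ∈ Set.range (CohIII.stalkToFunctionField f (genericPoint Y) hdom))
    {U : Y.Opens} (hU : IsAffineOpen U) {y : Y} (hyU : y ∈ U)
    (hy : IsIntegrallyClosed (Y.presheaf.stalk y)) :
    ∃ c : Γ(Y, U), y ∈ Y.basicOpen c ∧ IsIso (f.app (Y.basicOpen c)) := by
  classical
  haveI : Nonempty U := ⟨⟨y, hyU⟩⟩
  have hηU : genericPoint Y ∈ U := (genericPoint_specializes y).mem_open U.2 hyU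
  have hξ : f (genericPoint X) = genericPoint Y :=
    (hdom.antisymm (genericPoint_specializes _)).eq
  have hξU : genericPoint X ∈ f ⁻¹ᵁ U := show f (genericPoint X) ∈ U by rw [hξ]; exact hηU
  let ι := CohIII.stalkToFunctionField f (genericPoint Y) hdom
  let B := Γ(X, f ⁻¹ᵁ U)
  let ψ : B ⟶ X.functionField := X.presheaf.germ (f ⁻¹ᵁ U) (genericPoint X) hξU
  have hψ : Function.Injective ψ := germ_injective_of_isIntegral _ _ _
  have hfin := finite_app f hU
  haveI := functionField_isFractionRing_of_isAffineOpen Y U hU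
  letI : Algebra Γ(Y, U) (Y.presheaf.stalk y) := (Y.presheaf.germ U y hyU).hom.toAlgebra
  haveI hloc : IsLocalization.AtPrime (Y.presheaf.stalk y) (hU.primeIdealOf ⟨y, hyU⟩).asIdeal :=
    hU.isLocalization_stalk ⟨y, hyU⟩
  letI : Algebra (Y.presheaf.stalk y) Y.functionField :=
    (Y.presheaf.stalkSpecializes (genericPoint_specializes y)).hom.toAlgebra
  haveI : IsScalarTower Γ(Y, U) (Y.presheaf.stalk y) Y.functionField :=
    IsScalarTower.of_algebraMap_eq fun a => by
      show Y.presheaf.germ U (genericPoint Y) hηU a =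
        (Y.presheaf.stalkSpecializes (genericPoint_specializes y)).hom (Y.presheaf.germ U y hyU a)
      rw [← CommRingCat.comp_apply, TopCat.Presheaf.germ_stalkSpecializes]
  haveI : IsFractionRing (Y.presheaf.stalk y) Y.functionField :=
    IsFractionRing.isFractionRing_of_isDomain_of_isLocalization
      (hU.primeIdealOf ⟨y, hyU⟩).asIdeal.primeCompl _ _
  have key : ∀ b : B, ∃ s : Γ(Y, U), y ∈ Y.basicOpen s ∧ ∃ a, f.app U s * b = f.app U a := by
    intro b
    obtain ⟨p, hp, hp'⟩ := hfin.to_isIntegral b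
    let θ : Γ(Y, U) →+* Y.functionField := (Y.presheaf.germ U (genericPoint Y) hηU).hom
    have hcomp : ψ.hom.comp (f.app U).hom = ι.comp θ :=
      RingHom.ext fun a => germ_app_generic f hdom U hηU hξU a
    have h0 : Polynomial.eval₂ ι (ψ b) (p.map θ) = 0 := by
      rw [Polynomial.eval₂_map, ← hcomp, ← Polynomial.hom_eval₂, hp', map_zero]
    obtain ⟨q, hq⟩ := halg _ ⟨p.map θ, (hp.map θ).ne_zero, h0⟩
    have hqint : IsIntegral (Y.presheaf.stalk y) q := by
      refine IsIntegral.tower_top (A := Y.presheaf.stalk y) (show IsIntegral Γ(Y, U) q from ⟨p, hp, ?_⟩)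
      refine ι.injective ?_
      rw [map_zero, Polynomial.hom_eval₂, hq, show algebraMap Γ(Y, U) Y.functionField = θ from rfl,
        ← hcomp, ← Polynomial.hom_eval₂, hp', map_zero]
    obtain ⟨r, hr⟩ := IsIntegrallyClosed.isIntegral_iff.1 hqint
    obtain ⟨⟨a, ⟨s, hs⟩⟩, hrs⟩ := IsLocalization.surj (hU.primeIdealOf ⟨y, hyU⟩).asIdeal.primeCompl r
    refine ⟨s, ?_, a, hψ ?_⟩
    · rw [Scheme.mem_basicOpen _ _ y hyU]
      exact IsLocalization.map_units (Y.presheaf.stalk y) (⟨s, hs⟩ : (hU.primeIdealOf ⟨y, hyU⟩).asIdeal.primeCompl)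
    · rw [map_mul]
      have h1 := germ_app_generic f hdom U hηU hξU s
      have h2 := germ_app_generic f hdom U hηU hξU a
      show ψ (f.app U s) * ψ b = ψ (f.app U a)
      rw [show ψ (f.app U s) = _ from h1, show ψ (f.app U a) = _ from h2, ← hq, ← map_mul]
      congr 1
      rw [← hr]
      have := congrArg (algebraMap (Y.presheaf.stalk y) Y.functionField) hrs
      rw [map_mul, ← IsScalarTower.algebraMap_apply, ← IsScalarTower.algebraMap_apply, mul_comm] at this
      exact this
  letI : Algebra Γ(Y, U) B := (f.app U).hom.toAlgebra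
  haveI : Module.Finite Γ(Y, U) B := hfin
  obtain ⟨G, hG⟩ := Module.Finite.fg_top (R := Γ(Y, U)) (M := B)
  choose s hs a ha using key
  let c := ∏ b ∈ G, s b
  have hcy : y ∈ Y.basicOpen c := by
    rw [Scheme.mem_basicOpen _ _ y hyU, map_prod, IsUnit.prod_iff]
    intro b _
    rw [← Scheme.mem_basicOpen _ _ y hyU]
    exact hs b
  have hall : ∀ b : B, ∃ a', c • b = f.app U a' := by
    intro b
    have hb : b ∈ Submodule.span Γ(Y, U) (G : Set B) := hG.symm ▸ trivial
    induction hb using Submodule.span_induction with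
    | mem z hz =>
      refine ⟨(∏ b' ∈ G.erase z, s b') * a z, ?_⟩
      rw [Algebra.smul_def, show c = (∏ b' ∈ G.erase z, s b') * s z from
        (Finset.prod_erase_mul _ _ hz).symm, map_mul, mul_assoc]
      show _ * (f.app U (s z) * z) = _
      rw [ha, map_mul]
      rfl
    | zero => exact ⟨0, by simp⟩
    | add z w _ _ hz hw =>
      obtain ⟨a₁, h₁⟩ := hz
      obtain ⟨a₂, h₂⟩ := hw
      exact ⟨a₁ + a₂, by rw [smul_add, h₁, h₂, map_add]⟩
    | smul r z _ hz =>
      obtain ⟨a₁, h₁⟩ := hz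
      exact ⟨r * a₁, by rw [smul_comm, h₁, map_mul, Algebra.smul_def]; rfl⟩
  refine ⟨c, hcy, (ConcreteCategory.isIso_iff_bijective _).2 ⟨?_, fun z => ?_⟩⟩
  · have hηD : genericPoint Y ∈ Y.basicOpen c := (genericPoint_specializes y).mem_open (Y.basicOpen c).2 hcy
    intro a₁ a₂ h
    refine germ_injective_of_isIntegral Y _ hηD (ι.injective ?_)
    have hξD : genericPoint X ∈ f ⁻¹ᵁ Y.basicOpen c :=
      show f (genericPoint X) ∈ Y.basicOpen c by rw [hξ]; exact hηD
    rw [← germ_app_generic f hdom _ hηD hξD, ← germ_app_generic f hdom _ hηD hξD, h]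
  · haveI : IsLocalization.Away c Γ(Y, Y.basicOpen c) := hU.isLocalization_basicOpen c
    let ρ : Γ(Y, U) ⟶ Γ(Y, Y.basicOpen c) := Y.presheaf.map (homOfLE (Y.basicOpen_le c)).op
    let ρX : B ⟶ Γ(X, f ⁻¹ᵁ Y.basicOpen c) :=
      X.presheaf.map (homOfLE (fun x hx => Y.basicOpen_le c hx : f ⁻¹ᵁ Y.basicOpen c ≤ f ⁻¹ᵁ U)).op
    have hnat : f.app U ≫ ρX = ρ ≫ f.app (Y.basicOpen c) :=
      (f.naturality (homOfLE (Y.basicOpen_le c)).op).symm
    obtain ⟨n, b, hb⟩ : ∃ (n : ℕ) (b : B), z * ρX (f.app U c) ^ n = ρX b := by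
      have hcomp : IsCompact (f ⁻¹ᵁ U : Set X) := f.isCompact_preimage hU.isCompact
      have hqs : IsQuasiSeparated (f ⁻¹ᵁ U : Set X) := f.isQuasiSeparated_preimage hU.isQuasiSeparated
      obtain ⟨n, b, hb⟩ := exists_eq_pow_mul_of_isCompact_of_isQuasiSeparated _ (f ⁻¹ᵁ U) hcomp hqs
        (f.app U c) (X.presheaf.map (eqToHom (Scheme.preimage_basicOpen f c).symm).op z)
      refine ⟨n, b, ?_⟩
      have := congrArg (X.presheaf.map (eqToHom (Scheme.preimage_basicOpen f c)).op) hb
      simp only [map_mul, map_pow] at this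
      simp only [TopCat.Presheaf.restrictOpen, TopCat.Presheaf.restrict, ← CommRingCat.comp_apply,
        ← Functor.map_comp, ← op_comp] at this
      simp only [eqToHom_trans, eqToHom_refl, op_id, X.presheaf.map_id, CommRingCat.id_apply,
        CommRingCat.comp_apply] at this
      simp only [← CommRingCat.comp_apply, Category.assoc, ← Functor.map_comp, ← op_comp] at this
      rw [mul_comm]
      exact this.symm
    obtain ⟨a', ha'⟩ := hall b
    have hu : IsUnit (ρ c) := IsLocalization.Away.algebraMap_isUnit (S := Γ(Y, Y.basicOpen c)) c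
    refine ⟨ρ a' * (↑(hu.unit⁻¹) : Γ(Y, Y.basicOpen c)) ^ (n + 1), ?_⟩
    have h1 : f.app (Y.basicOpen c) (ρ a') = ρX (f.app U c) * ρX b := by
      rw [← CommRingCat.comp_apply, ← hnat, CommRingCat.comp_apply, ← ha', Algebra.smul_def]
      exact map_mul _ _ _
    have h2 : f.app (Y.basicOpen c) (ρ c) = ρX (f.app U c) := by
      rw [← CommRingCat.comp_apply, ← hnat, CommRingCat.comp_apply]
    have h3 : ρX (f.app U c) * f.app (Y.basicOpen c) (↑(hu.unit⁻¹)) = 1 := by
      rw [← h2, ← map_mul, hu.mul_val_inv, map_one]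
    rw [map_mul, map_pow, h1, ← hb, mul_comm z, ← mul_assoc, ← pow_succ', mul_comm (_ * z),
      ← mul_assoc, ← mul_pow, mul_comm (f.app _ _), h3, one_pow, one_mul]

/-- Near a normal point, `f_* O_X = O_Y` and the fibre is geometrically connected. -/
theorem isIso_app_near_normal {X Y : Scheme.{u}} [IsIntegral X] [IsIntegral Y]
    [IsLocallyNoetherian Y] (f : X ⟶ Y) [IsProper f]
    (hdom : f.base (genericPoint X) ⤳ genericPoint Y)
    (halg : ∀ x : X.functionField,
      (∃ q : Polynomial Y.functionField, q ≠ 0 ∧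
        Polynomial.eval₂ (CohIII.stalkToFunctionField f (genericPoint Y) hdom) x q = 0) →
      x ∈ Set.range (CohIII.stalkToFunctionField f (genericPoint Y) hdom))
    (y : Y) (hy : IsIntegrallyClosed (Y.presheaf.stalk y)) :
    ∃ D : Y.Opens, y ∈ D ∧ GeometricallyConnected (f ∣_ D) ∧ ∀ V : Y.Opens, V ≤ D → IsIso (f.app V) := by
  obtain ⟨U, hU, hyU, -⟩ := exists_isAffineOpen_mem_and_subset (show y ∈ (⊤ : Y.Opens) from trivial)
  obtain ⟨c, hcy, hc⟩ := exists_isIso_app_basicOpen f hdom halg hU hyU hy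
  let m := f.fromNormalization
  let b := f.toNormalization
  let D := Y.basicOpen c
  have hb : ∀ W, IsIso (b.app W) := Groth.Agent.S1340.result f
  have hcomp : ∀ V : Y.Opens, IsIso (f.app V) ↔ IsIso (m.app V) := fun V => by
    have key : ∀ g : X ⟶ Y, g = f → (IsIso (g.app V) ↔ IsIso (f.app V)) := by rintro _ rfl; rfl
    rw [← key (b ≫ m) f.toNormalization_fromNormalization, Scheme.Hom.comp_app]
    have := hb (m ⁻¹ᵁ V)
    exact ⟨fun h => @IsIso.of_isIso_comp_right _ _ _ _ _ (m.app V) (b.app (m ⁻¹ᵁ V)) this h,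
      fun h => @IsIso.comp_isIso _ _ _ _ _ _ _ h this⟩
  haveI : IsIso (m ∣_ D) :=
    (isIso_morphismRestrict_iff_isIso_app m (hU.basicOpen c)).2 ((hcomp D).1 hc)
  have happ : ∀ V : Y.Opens, V ≤ D → IsIso (f.app V) := fun V hV => by
    rw [hcomp]
    have h1 : IsIso ((m ∣_ D).app (D.ι ⁻¹ᵁ V)) := inferInstance
    rw [morphismRestrict_app'] at h1
    have hVD : D.ι ''ᵁ D.ι ⁻¹ᵁ V = V := by
      rw [Scheme.Hom.image_preimage_eq_opensRange_inf, Scheme.Opens.opensRange_ι]
      exact inf_eq_right.2 hV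
    rw [Scheme.Hom.app_eq_appLE]
    exact (m.appLE_congr _ hVD (by simp [image_morphismRestrict_preimage, hVD]) (IsIso ·)).1 h1
  refine ⟨D, hcy, ?_, happ⟩
  haveI : IsProper (f ∣_ D) := IsZariskiLocalAtTarget.restrict ‹_› D
  refine geometricallyConnected (f ∣_ D) fun V => ?_
  rw [morphismRestrict_app']
  have hVD : D.ι ''ᵁ V ≤ D := by
    rintro _ ⟨z, -, rfl⟩; exact z.2
  have := happ _ hVD
  rw [Scheme.Hom.app_eq_appLE] at this
  exact (f.appLE_congr _ rfl (by simp [image_morphismRestrict_preimage]) (IsIso ·)).1 this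

end Groth.Agent.H34.Stein
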