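import Groth.Agent.S1340
import Groth.Agent.H2.Rigid.PushFlat
import Mathlib.AlgebraicGeometry.Morphisms.Flat

/-!
# Recognising Stein factorizations, and their behaviour under base change
-/

set_option autoImplicit false
universe u

open CategoryTheory CategoryTheory.Limits AlgebraicGeometry TopologicalSpace Opposite
open Groth.Agent.H2.Rigid

namespace Groth.Agent.H34.Stein

/-- If `f` factors as `b ≫ m` with `m` integral and `b_* O = O`, then `m` is the normalization. -/
theorem isIso_normalizationDesc {X N S : Scheme.{u}} (f : X ⟶ S) [QuasiCompact f] [QuasiSeparated f]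
    (b : X ⟶ N) (m : N ⟶ S) [IsIntegralHom m] (H : f = b ≫ m) (hb : Push b) :
    IsIso (f.normalizationDesc b m H) := by
  let d := f.normalizationDesc b m H
  refine IsZariskiLocalAtTarget.of_iSup_eq_top (P := .isomorphisms Scheme.{u})
    (fun U : S.affineOpens => m ⁻¹ᵁ U.1)
    (by rw [← Scheme.Hom.preimage_iSup, iSup_affineOpens_eq_top, Scheme.Hom.preimage_top]) fun U => ?_
  have hU := U.2.preimage m
  refine (isIso_morphismRestrict_iff_isIso_app _ hU).mpr ((ConcreteCategory.isIso_iff_bijective _).mpr ?_)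
  have hd : d ⁻¹ᵁ m ⁻¹ᵁ U.1 = f.fromNormalization ⁻¹ᵁ U.1 := by
    rw [← Scheme.Hom.comp_preimage, f.normalizationDesc_comp]
  have hinj : Function.Injective (f.toNormalization.app (d ⁻¹ᵁ m ⁻¹ᵁ U.1)).hom := by
    rw [RingHom.injective_iff_ker_eq_bot]
    have h := Scheme.Hom.ker_apply f.toNormalization ⟨d ⁻¹ᵁ m ⁻¹ᵁ U.1, hd ▸ U.2.preimage _⟩
    rw [f.ker_toNormalization] at h
    exact h.symm
  have key : ∀ (b' : X ⟶ N), b' = b → Function.Bijective (b'.app (m ⁻¹ᵁ U.1)).hom := by
    rintro _ rfl; exact hb _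
  have hk := key (f.toNormalization ≫ d) (f.toNormalization_normalizationDesc b m H)
  rw [Scheme.Hom.comp_app] at hk
  refine ⟨fun a c h => hk.1 (congrArg (f.toNormalization.app _).hom h), fun z => ?_⟩
  obtain ⟨w, hw⟩ := hk.2 ((f.toNormalization.app (d ⁻¹ᵁ m ⁻¹ᵁ U.1)).hom z)
  exact ⟨w, hinj hw⟩

/-- `b_* O = O` is stable under flat base change. -/
theorem push_flat_baseChange {X N X' N' : Scheme.{u}} {b : X ⟶ N} {b' : X' ⟶ N'} {h' : X' ⟶ X}
    {h : N' ⟶ N} [QuasiCompact b] [QuasiSeparated b] [Flat h] (H : IsPullback h' b' b h)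
    (hb : Push b) : Push b' := by
  let B : {p : N.affineOpens × N'.affineOpens // p.2.1 ≤ h ⁻¹ᵁ p.1.1} → N'.Opens := fun p => p.1.2.1
  have hB : Opens.IsBasis (Set.range B) := by
    rw [Opens.isBasis_iff_nbhd]
    intro O x hx
    obtain ⟨U, hU, hxU, -⟩ := exists_isAffineOpen_mem_and_subset (show h x ∈ (⊤ : N.Opens) from trivial)
    obtain ⟨W, hW, hxW, hWO⟩ := exists_isAffineOpen_mem_and_subset (show x ∈ O ⊓ h ⁻¹ᵁ U from ⟨hx, hxU⟩)
    exact ⟨W, ⟨⟨(⟨U, hU⟩, ⟨W, hW⟩), fun z hz => (hWO hz).2⟩, rfl⟩, hxW, fun z hz => (hWO hz).1⟩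
  have hbij : ∀ p, Function.Bijective (b'.app (B p)).hom := by
    rintro ⟨⟨⟨U, hU⟩, ⟨W, hW⟩⟩, hle : W ≤ h ⁻¹ᵁ U⟩
    have := isIso_pushoutSection_of_isQuasiSeparated_of_flat_right H
      (US := U) (UT := W) (UX := b ⁻¹ᵁ U) (UY := b' ⁻¹ᵁ W) hle le_rfl
      (by simp_rw [← Scheme.Hom.comp_preimage, H.w, Scheme.Hom.comp_preimage,
            ← Scheme.Hom.preimage_inf, inf_eq_right.mpr hle])
      hU hW (b.isCompact_preimage hU.isCompact) (b.isQuasiSeparated_preimage hU.isQuasiSeparated)
    have hpo := (isIso_pushoutSection_iff _ _ _ _).1 this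
    rw [← Scheme.Hom.app_eq_appLE] at hpo
    have : IsIso (b.app U) := (ConcreteCategory.isIso_iff_bijective _).mpr (hb U)
    have hiso : IsIso (b'.appLE W (b' ⁻¹ᵁ W) le_rfl) := by
      have := hpo.isIso_inr_of_isIso
      exact this
    rw [← Scheme.Hom.app_eq_appLE] at hiso
    exact (ConcreteCategory.isIso_iff_bijective _).mp hiso
  let φ : N'.sheaf ⟶ (TopCat.Sheaf.pushforward _ b'.base).obj X'.sheaf := ⟨b'.c⟩
  have hφ : IsIso φ := TopCat.Sheaf.isIso_iff_isIso_basis hB fun p =>
    (ConcreteCategory.isIso_iff_bijective _).mpr (hbij p)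
  intro U
  exact (ConcreteCategory.isIso_iff_bijective _).mp
    (inferInstanceAs (IsIso (((TopCat.Sheaf.forget _ _).map φ).app (op U))))

/-- Proper flat morphisms of finite presentation with geometrically connected and reduced fibres
satisfy `b_* O = O`. -/
theorem push_of_geometrically {X N : Scheme.{u}} (b : X ⟶ N) [IsProper b] [Flat b]
    [LocallyOfFinitePresentation b] [GeometricallyConnected b] [GeometricallyReduced b] : Push b :=
  PushFlat.push_of_flat_fp b (H0.of_geometrically b)

/-- The normalization commutes with a base change along which `b_* O = O` is preserved. -/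
theorem isIso_normalizationPullback {X S T : Scheme.{u}} (f : X ⟶ S) [QuasiCompact f] [QuasiSeparated f]
    (g : T ⟶ S) (h : Push (pullback.snd f.toNormalization (pullback.fst f.fromNormalization g))) :
    IsIso (f.normalizationPullback g) := by
  let mp : pullback f g ⟶ pullback f.fromNormalization g :=
    pullback.map _ _ _ _ f.toNormalization (𝟙 _) (𝟙 _) (by simp) (by simp)
  have hsq : IsPullback (pullback.fst f g) mp f.toNormalization (pullback.fst f.fromNormalization g) := by
    refine IsPullback.of_bot ?_ (pullback.lift_fst _ _ _).symm (IsPullback.of_hasPullback f.fromNormalization g)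
    have e : mp ≫ pullback.snd f.fromNormalization g = pullback.snd f g :=
      (pullback.lift_snd _ _ _).trans (Category.comp_id _)
    rw [e, f.toNormalization_fromNormalization]
    exact IsPullback.of_hasPullback f g
  refine isIso_normalizationDesc _ mp _ _ ?_
  intro U
  have he : hsq.isoPullback.hom ≫ pullback.snd _ _ = mp := hsq.isoPullback_hom_snd
  rw [← he, Scheme.Hom.comp_app]
  exact (ConcreteCategory.bijective_of_isIso (hsq.isoPullback.hom.app _)).comp (h U)

end Groth.Agent.H34.Stein
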