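import Groth.Agent.H34.Stein.DvrCount
import Groth.Agent.H46.DvrScheme
import Groth.Agent.H46.Lift
import Groth.Agent.S1339

/-!
# Constancy of the number of geometric components near geometrically reduced fibres
-/

set_option autoImplicit false
universe u

open CategoryTheory CategoryTheory.Limits AlgebraicGeometry Topology Filter

namespace Groth.Agent.H34.Stein

/-- The number of geometric components does not go up under generalisation to a point, if the
special fibre is geometrically reduced and `f` is universally open along it. -/
theorem le_of_specializes {X Y : Scheme.{u}} (f : X ⟶ Y) [IsProper f] [IsLocallyNoetherian Y] (y : Y)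
    (h : ∀ x : X, f x = y → EGA43.IsUnivOpenAt f x)
    (hred : GeometricallyReduced (f.fiberToSpecResidueField y)) {z : Y} (hz : z ⤳ y) :
    MoreMor.nGeomConnComp f z ≤ MoreMor.nGeomConnComp f y := by
  by_cases hne : z = y
  · rw [hne]
  obtain ⟨R, _, _, _, g, hgs, hgη⟩ := H46.DvrScheme.exists_dvr_of_specializes hz hne
  let P := pullback f g
  let p : P ⟶ Spec (CommRingCat.of R) := pullback.snd f g
  let s : Spec (CommRingCat.of R) := IsLocalRing.closedPoint R
  let η : Spec (CommRingCat.of R) := genericPoint (Spec (CommRingCat.of R))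
  have hηs : η.asIdeal = ⊥ := by
    show (genericPoint (Spec (CommRingCat.of R))).asIdeal = ⊥
    rw [genericPoint_eq_bot_of_affine]
    rfl
  have hsq := IsPullback.of_hasPullback f g
  rw [← hgη, ← hgs, ← (H46.GeomSpread.counts_baseChange f p _ g hsq η).2,
    ← (H46.GeomSpread.counts_baseChange f p _ g hsq s).2]
  refine DvrCount.nGeomConnComp_le p η s hηs rfl (fun w hw => ?_) fun Ω _ _ ξ hξ => ?_
  · have hx : f (pullback.fst f g w) = y := by
      rw [← Scheme.Hom.comp_apply, pullback.condition, Scheme.Hom.comp_apply]
      show g (p w) = y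
      rw [hw]; exact hgs
    have hop := H46.OpenAt.isOpenAt_of_isPullback (h _ hx) hsq w rfl
    have hy : η ⤳ p w := (genericPoint_spec _).specializes trivial
    exact H46.Lift.exists_generization p w η hy fun O hO =>
      H46.Lift.generizations_of_isOpenAt hop O hO η hy
  · obtain ⟨e, he⟩ : ∃ e : Y.residueField y ⟶ CommRingCat.of Ω,
        ξ ≫ g = Spec.map e ≫ Y.fromSpecResidueField y := by
      have hpt : H54.GeomLift.pt (ξ ≫ g) = y := by
        rw [H54.GeomLift.pt_comp, hξ]; exact hgs
      rw [← hpt]
      exact H54.GeomLift.exists_of_pt _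
    have : IsReduced (pullback (f.fiberToSpecResidueField y) (Spec.map e)) :=
      hred.geometrically_isReduced _ _ _ (.of_hasPullback _ _)
    let i : pullback p ξ ≅ pullback (f.fiberToSpecResidueField y) (Spec.map e) :=
      pullbackLeftPullbackSndIso f g ξ ≪≫ pullback.congrHom rfl he ≪≫
        (pullbackLeftPullbackSndIso f (Y.fromSpecResidueField y) (Spec.map e)).symm
    exact isReduced_of_isOpenImmersion i.hom

/-- The number of geometric components is constant near a point with geometrically reduced fibre along
which `f` is universally open. -/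
theorem eventually_eq {X Y : Scheme.{u}} (f : X ⟶ Y) [IsProper f] [IsLocallyNoetherian Y] (y : Y)
    (h : ∀ x : X, f x = y → EGA43.IsUnivOpenAt f x)
    (hred : GeometricallyReduced (f.fiberToSpecResidueField y)) :
    ∀ᶠ z in 𝓝 y, MoreMor.nGeomConnComp f z = MoreMor.nGeomConnComp f y := by
  have : LocallyOfFinitePresentation f := LocallyOfFinitePresentation.iff_locallyOfFiniteType.2 inferInstance
  obtain ⟨U, hU, hyU, -⟩ := exists_isAffineOpen_mem_and_subset (show y ∈ (⊤ : Y.Opens) from trivial)
  let n := MoreMor.nGeomConnComp f y
  let T : Set Y := {z | MoreMor.nGeomConnComp f z = n}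
  have hT : IsConstructible (hU.fromSpec.base ⁻¹' T) :=
    ((Groth.Agent.S1339.result f n).preimage_of_isOpenEmbedding hU.fromSpec.isOpenEmbedding).isConstructible
  obtain ⟨p, rfl⟩ : ∃ p, hU.fromSpec p = y := by
    have := hU.range_fromSpec.ge hyU
    exact this
  have hev := eventually_le f _ h
  have hmem : hU.fromSpec.base ⁻¹' T ∈ 𝓝 p := by
    refine H46.Lift.mem_nhds_of_isConstructible hT p fun q hq => ?_
    have hq' : hU.fromSpec q ⤳ hU.fromSpec p := hq.map hU.fromSpec.continuous
    refine le_antisymm (le_of_specializes f _ h hred hq')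
      (?_)
    exact interior_subset (s := {z | MoreMor.nGeomConnComp f (hU.fromSpec p) ≤ MoreMor.nGeomConnComp f z})
      (hq'.mem_open isOpen_interior (mem_interior_iff_mem_nhds.2 hev))
  have := (hU.fromSpec.isOpenEmbedding.isOpenMap.image_mem_nhds hmem)
  exact Filter.mem_of_superset this (Set.image_preimage_subset _ _)

end Groth.Agent.H34.Stein
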