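import Groth.Agent.H34.Stein.FibreMax
import Groth.Agent.H34.Stein.MaxCount
import Groth.Prelude.Def_CAlg2
import Mathlib.FieldTheory.AlgebraicClosure
import Mathlib.FieldTheory.PurelyInseparable.Basic

/-!
# Fibres over unibranch points
-/

set_option autoImplicit false
universe u

open CategoryTheory AlgebraicGeometry TopologicalSpace

namespace Groth.Agent.H34.Stein

/-- The normalization of a unibranch local domain is local. -/
theorem isLocalRing_integralClosure {O K : Type u} [CommRing O] [IsLocalRing O] [IsDomain O] [Field K]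
    [Algebra O K] [IsFractionRing O K] (hO : CAlg2.IsUnibranch O) :
    IsLocalRing (integralClosure O K) := by
  obtain ⟨hdom, hloc⟩ := hO
  let r : O ≃ₐ[O] CAlg2.red O := AlgEquiv.ofBijective (Ideal.Quotient.mkₐ O (nilradical O))
    ⟨(RingHom.injective_iff_ker_eq_bot _).2 (by
        change RingHom.ker (Ideal.Quotient.mk (nilradical O)) = ⊥
        rw [Ideal.mk_ker]; exact nilradical_eq_zero O),
      Ideal.Quotient.mk_surjective⟩
  have hdom' : IsDomain (CAlg2.red O) := hdom
  let e : FractionRing (CAlg2.red O) ≃+* K :=
    (IsFractionRing.ringEquivOfRingEquiv (K := K) (L := FractionRing (CAlg2.red O)) r.toRingEquiv).symm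
  have he : ∀ a : O, e (algebraMap (CAlg2.red O) _ (r a)) = algebraMap O K a := fun a => by
    rw [RingEquiv.symm_apply_eq, IsFractionRing.ringEquivOfRingEquiv_algebraMap]
    rfl
  have hint : ∀ z : FractionRing (CAlg2.red O), IsIntegral (CAlg2.red O) z → IsIntegral O (e z) := by
    rintro z ⟨p, hp, hp'⟩
    refine ⟨p.map r.symm.toRingEquiv.toRingHom, hp.map _, ?_⟩
    rw [Polynomial.eval₂_map]
    have : (algebraMap O K).comp r.symm.toRingEquiv.toRingHom =
        e.toRingHom.comp (algebraMap (CAlg2.red O) _) := by
      refine RingHom.ext fun b => ?_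
      obtain ⟨a, rfl⟩ := r.surjective b
      show algebraMap O K (r.symm (r a)) = e _
      rw [r.symm_apply_apply, he]
    rw [this]
    show Polynomial.eval₂ _ (e.toRingHom z) p = 0
    rw [← Polynomial.hom_eval₂, hp', map_zero]
  let Φ : CAlg2.normRed O →+* integralClosure O K :=
    RingHom.codRestrict (e.toRingHom.comp
      (integralClosure (CAlg2.red O) (FractionRing (CAlg2.red O))).val.toRingHom) _ fun z => hint z.1 z.2
  have := hloc
  refine IsLocalRing.of_surjective' Φ fun w => ?_
  refine ⟨⟨e.symm w.1, ?_⟩, Subtype.ext (e.apply_symm_apply _)⟩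
  obtain ⟨p, hp, hp'⟩ := w.2
  refine ⟨p.map r.toRingEquiv.toRingHom, hp.map _, ?_⟩
  rw [Polynomial.eval₂_map]
  have : (algebraMap (CAlg2.red O) (FractionRing (CAlg2.red O))).comp r.toRingEquiv.toRingHom =
      e.symm.toRingHom.comp (algebraMap O K) := by
    refine RingHom.ext fun a => e.injective ?_
    show e (algebraMap _ _ (r a)) = e (e.symm _)
    rw [he, e.apply_symm_apply]
  rw [this]
  show Polynomial.eval₂ _ (e.symm.toRingHom w.1) p = 0
  rw [← Polynomial.hom_eval₂, hp', map_zero]

/-- Components of the fibre over a unibranch point inject into the embeddings of the algebraic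
closure of the base function field inside that of the source. -/
theorem exists_injective_emb {X Y : Scheme.{u}} [IsIntegral X] [IsIntegral Y] [IsLocallyNoetherian Y]
    (f : X ⟶ Y) [IsProper f] (hdom : f.base (genericPoint X) ⤳ genericPoint Y)
    [Algebra Y.functionField X.functionField]
    (halg : algebraMap Y.functionField X.functionField =
      CohIII.stalkToFunctionField f (genericPoint Y) hdom)
    (y : Y) (hy : CAlg2.IsUnibranch (Y.presheaf.stalk y))
    [Finite (↥(algebraicClosure Y.functionField X.functionField) →ₐ[Y.functionField]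
      AlgebraicClosure Y.functionField)] :
    ∃ F : ConnectedComponents ↥(f.fiber y) →
      (↥(algebraicClosure Y.functionField X.functionField) →ₐ[Y.functionField]
        AlgebraicClosure Y.functionField), Function.Injective F := by
  let K := Y.functionField
  let E := X.functionField
  let L := algebraicClosure K E
  let O := Y.presheaf.stalk y
  have h : f.base (genericPoint X) ⤳ y := hdom.trans (genericPoint_specializes y)
  letI : Algebra O E := ((algebraMap K E).comp (algebraMap O K)).toAlgebra
  haveI : IsScalarTower O K E := .of_algebraMap_eq' rfl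
  have hφ : algebraMap O E = CohIII.stalkToFunctionField f y h := by
    show (algebraMap K E).comp (algebraMap O K) = _
    rw [halg]
    show (Y.presheaf.stalkSpecializes (genericPoint_specializes y) ≫
      Y.presheaf.stalkSpecializes hdom ≫ f.stalkMap _).hom = _
    rw [TopCat.Presheaf.stalkSpecializes_comp_assoc]
    rfl
  let C := CohIII.integralClosureStalk f y h
  have hC : ∀ z : E, z ∈ C ↔ IsIntegral O z := fun z => by
    show (CohIII.stalkToFunctionField f y h).IsIntegralElem z ↔ (algebraMap O E).IsIntegralElem z
    rw [hφ]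
  let N := integralClosure O K
  have : IsLocalRing N := isLocalRing_integralClosure hy
  have hfrac : IsFractionRing N K := by
    refine IsFractionRing.of_field _ _ fun z => ?_
    obtain ⟨a, b, -, rfl⟩ := IsFractionRing.div_surjective (A := O) z
    exact ⟨⟨_, isIntegral_algebraMap⟩, ⟨_, isIntegral_algebraMap⟩, rfl⟩
  have : IsIntegrallyClosed N := (isIntegrallyClosed_iff_isIntegrallyClosedIn K).2 inferInstance
  have hCL : ∀ c : C, (c : E) ∈ L := fun c =>
    mem_algebraicClosure_iff.2 (((hC _).1 c.2).tower_top (A := K)).isAlgebraic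
  letI : Algebra N C := (RingHom.codRestrict ((algebraMap K E).comp N.val.toRingHom) C
    fun w => (hC _).2 (w.2.map (IsScalarTower.toAlgHom O K E))).toAlgebra
  letI : Algebra C L := (RingHom.codRestrict C.subtype L hCL).toAlgebra
  haveI : IsScalarTower N C L := .of_algebraMap_eq fun w => Subtype.ext rfl
  haveI : FaithfulSMul C L := (faithfulSMul_iff_algebraMap_injective _ _).2
    fun a b e => Subtype.ext (congrArg (fun v : L => (v : E)) e)
  haveI : Algebra.IsIntegral N C := ⟨fun c => by
    obtain ⟨p, hp, hp'⟩ := (hC _).1 c.2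
    refine ⟨p.map (algebraMap O N), hp.map _, Subtype.ext ?_⟩
    rw [Polynomial.eval₂_map]
    show C.subtype _ = _
    rw [Polynomial.hom_eval₂]
    exact hp'⟩
  obtain ⟨F, hF⟩ := MaxCount.exists_injective N K L C
  obtain ⟨G, hG⟩ := exists_injective_components f y h
  exact ⟨F ∘ G, hF.comp hG⟩

/-- A dominant proper morphism is surjective. -/
theorem surjective_of_generic {X Y : Scheme.{u}} [IrreducibleSpace X] [IrreducibleSpace Y]
    (f : X ⟶ Y) [UniversallyClosed f] (hdom : f.base (genericPoint X) ⤳ genericPoint Y) (y : Y) :
    Nonempty ↥(f.fiber y) := by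
  have hy : y ∈ Set.range f.base :=
    (hdom.trans (genericPoint_specializes y)).mem_closed f.isClosedMap.isClosed_range
      (Set.mem_range_self _)
  obtain ⟨x, hx⟩ := hy
  exact ⟨(f.fiberHomeo y).symm ⟨x, hx⟩⟩

end Groth.Agent.H34.Stein
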